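import Cfsg.Agent.CoOneType.Setting

/-!
An involution whose centraliser has an extraspecial `O_2` of order `2^9`, with the projection and
the action on the quadratic space, and the change of coordinates by an isometry.
-/

set_option autoImplicit false

open Cfsg Cfsg.Agent.ThreeTrans.OrthCohom Cfsg.Agent.Classical.Quad QuadraticMap Cfsg.Agent.LargeExtra
open Cfsg.Agent.CoOneType

namespace Cfsg.Agent.CoOneWeak

variable {G : Type*} [Group G] [Finite G]

/-- The data attached to the involution. -/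
structure Base (z : G) where
  sett : Setting z
  /-- the projection to the quadratic space -/
  pr : G → V
  pr_mul : ∀ a ∈ oc z, ∀ b ∈ oc z, pr (a * b) = pr a + pr b
  pr_ker : ∀ a ∈ oc z, pr a = 0 → a = 1 ∨ a = z
  pr_z : pr z = 0
  pr_surj : ∀ v, ∃ a ∈ oc z, pr a = v
  pr_sq : ∀ a ∈ oc z, a * a = zp z (qP 4 (pr a))
  /-- the action of the centraliser -/
  act : G → O
  act_spec : ∀ c, c * z = z * c → ∀ a ∈ oc z, pr (c * a * c⁻¹) = (act c).1 (pr a)
  act_even : ∀ c, c * z = z * c → dsign (act c) = 1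
  act_ker : ∀ c, c * z = z * c → act c = 1 → c ∈ oc z

namespace Base

variable {z : G} (S : Base z)
include S

theorem zmem : z ∈ oc z := mem_oc_self S.sett.ord

theorem zz : z * z = 1 := S.sett.sq_one

theorem zne : z ≠ 1 := S.sett.ne_one

theorem comm {a : G} (ha : a ∈ oc z) : a * z = z * a := (S.sett.comm_z ha).eq

theorem comm_zp {a : G} (ha : a * z = z * a) (e : ZMod 2) : a * zp z e = zp z e * a := by
  rcases zmod_cases e with rfl | rfl <;> simp [zp_zero, zp_one, ha]

theorem zp_mem (e : ZMod 2) : zp z e ∈ oc z := by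
  rcases zmod_cases e with rfl | rfl
  · rw [zp_zero]; exact one_mem _
  · rw [zp_one]; exact S.zmem

theorem pr_zp (e : ZMod 2) : S.pr (zp z e) = 0 := by
  rcases zmod_cases e with rfl | rfl
  · rw [zp_zero]
    exact add_eq_left.1 (by rw [← S.pr_mul 1 (one_mem _) 1 (one_mem _), one_mul])
  · rw [zp_one]; exact S.pr_z

theorem pr_one : S.pr 1 = 0 := by rw [← zp_zero z]; exact S.pr_zp 0

theorem pr_inv {a : G} (ha : a ∈ oc z) : S.pr a⁻¹ = S.pr a := by
  refine v_eq_of_add ?_
  rw [← S.pr_mul _ (inv_mem ha) _ ha, inv_mul_cancel, S.pr_one]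

theorem pr_eq {a b : G} (ha : a ∈ oc z) (hb : b ∈ oc z) (h : S.pr a = S.pr b) :
    b = a ∨ b = a * z := by
  have hm := mul_mem (inv_mem ha) hb
  rcases S.pr_ker _ hm (by rw [S.pr_mul _ (inv_mem ha) _ hb, S.pr_inv ha, h, v_add_self]) with e | e
  · exact Or.inl (inv_mul_eq_one.1 e).symm
  · exact Or.inr (inv_mul_eq_iff_eq_mul.1 e)

theorem commutator_eq {a b : G} (ha : a ∈ oc z) (hb : b ∈ oc z) :
    a * b * a⁻¹ * b⁻¹ = zp z (Bp (S.pr a) (S.pr b)) := by
  have h1 := S.pr_sq a ha
  have h2 := S.pr_sq b hb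
  have h3 := S.pr_sq (a * b) (mul_mem ha hb)
  rw [S.pr_mul a ha b hb] at h3
  have hi : ∀ e, (zp z e)⁻¹ = zp z e := fun e => inv_eq_of_mul_eq_one_right (by
    rw [← zp_add S.zz, (by decide : ∀ e : ZMod 2, e + e = 0), zp_zero])
  have hbc := S.comm_zp (S.comm hb) (qP 4 (S.pr a))
  calc a * b * a⁻¹ * b⁻¹ = a * b * a * ((a * a)⁻¹ * b) * (b * b)⁻¹ := by group
    _ = a * b * a * (b * zp z (qP 4 (S.pr a))) * zp z (qP 4 (S.pr b)) := by rw [h1, h2, hi, hi, hbc]
    _ = (a * b * (a * b)) * (zp z (qP 4 (S.pr a)) * zp z (qP 4 (S.pr b))) := by group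
    _ = zp z (Bp (S.pr a) (S.pr b)) := by
      rw [h3, ← zp_add S.zz, ← zp_add S.zz]
      congr 1
      rw [Bp, polar]
      have : ∀ x y w : ZMod 2, x + (y + w) = x - y - w := by decide
      exact this _ _ _

theorem commute_iff {a b : G} (ha : a ∈ oc z) (hb : b ∈ oc z) :
    a * b = b * a ↔ Bp (S.pr a) (S.pr b) = 0 := by
  constructor
  · intro h
    refine zp_inj S.zne ?_
    rw [← S.commutator_eq ha hb, zp_zero]
    calc a * b * a⁻¹ * b⁻¹ = a * b * (b * a)⁻¹ := by group
      _ = 1 := by rw [← h, mul_inv_cancel]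
  · intro h
    have e := S.commutator_eq ha hb
    rw [h, zp_zero] at e
    calc a * b = a * b * a⁻¹ * b⁻¹ * (b * a) := by group
      _ = b * a := by rw [e, one_mul]

theorem nrm {c a : G} (hc : c * z = z * c) (ha : a ∈ oc z) : c * a * c⁻¹ ∈ oc z :=
  oc_conj_mem (Subgroup.mem_centralizer_singleton_iff.2 hc) ha

theorem act_inner {a : G} (ha : a ∈ oc z) : S.act a = 1 := by
  refine ext_oG fun x => ?_
  obtain ⟨b, hb, rfl⟩ := S.pr_surj x
  rw [← S.act_spec a (S.comm ha) b hb, S.pr_mul _ (mul_mem ha hb) _ (inv_mem ha),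
    S.pr_mul a ha b hb, S.pr_inv ha, oG_one_apply, add_comm (S.pr a), add_assoc, v_add_self, add_zero]

theorem act_mul {c d : G} (hc : c * z = z * c) (hd : d * z = z * d) :
    S.act (c * d) = S.act c * S.act d := by
  refine ext_oG fun x => ?_
  obtain ⟨b, hb, rfl⟩ := S.pr_surj x
  have hcd : c * d * z = z * (c * d) := Commute.mul_left hc hd
  rw [oG_mul_apply, ← S.act_spec d hd b hb, ← S.act_spec c hc _ (S.nrm hd hb),
    ← S.act_spec _ hcd b hb]
  congr 1
  group

theorem act_one : S.act 1 = 1 := S.act_inner (one_mem _)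

theorem act_inv {c : G} (hc : c * z = z * c) : S.act c⁻¹ = (S.act c)⁻¹ := by
  refine (inv_eq_of_mul_eq_one_right ?_).symm
  rw [← S.act_mul hc (Commute.inv_left hc).eq, mul_inv_cancel, S.act_one]

/-- The same data in other coordinates. -/
def twist (r : O) : Base z where
  sett := S.sett
  pr := fun a => r.1 (S.pr a)
  pr_mul := fun a ha b hb => by rw [S.pr_mul a ha b hb, map_add]
  pr_ker := fun a ha h => S.pr_ker a ha (r.1.map_eq_zero_iff.1 h)
  pr_z := by rw [S.pr_z, map_zero]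
  pr_surj := fun v => by
    obtain ⟨a, ha, e⟩ := S.pr_surj (r⁻¹.1 v)
    exact ⟨a, ha, by rw [e, oG_apply_inv]⟩
  pr_sq := fun a ha => by rw [r.2]; exact S.pr_sq a ha
  act := fun c => r * S.act c * r⁻¹
  act_spec := fun c hc a ha => by
    rw [S.act_spec c hc a ha, oG_mul_apply, oG_mul_apply, oG_inv_apply]
  act_even := fun c hc => by
    have hm := fun a b : O => dsign_mul nondegP4 (Or.inr (by simp)) a b
    rw [hm, hm, S.act_even c hc, mul_one, ← hm, mul_inv_cancel, dsign_one]
  act_ker := fun c hc h => S.act_ker c hc (conj_eq_one_iff.1 h)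

theorem twist_pr (r : O) (a : G) : (S.twist r).pr a = r.1 (S.pr a) := rfl

theorem twist_act (r : O) (c : G) : (S.twist r).act c = r * S.act c * r⁻¹ := rfl

theorem zp_sq (e : ZMod 2) : zp z e * zp z e = 1 := by
  rw [← zp_add S.zz, (by decide : ∀ e : ZMod 2, e + e = 0), zp_zero]

end Base

end Cfsg.Agent.CoOneWeak
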