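import Cfsg.Agent.CoOneWeak.Tables
import Cfsg.Agent.CoOneType.Norm

/-!
Every involution of `Ω⁺(8, 2)` is conjugate to one of the five representatives.
-/

set_option autoImplicit false
set_option maxRecDepth 100000

open Cfsg.Agent.ThreeTrans.OrthCohom Cfsg.Agent.Classical.Quad QuadraticMap Cfsg.Agent.CoOneType

namespace Cfsg.Agent.CoOneWeak

/-- The isometry is the `k`-th representative. -/
def IsR (g : O) (k : Fin 5) : Prop := ∀ v : Fin 256, g.1 (dc v.val) = dc (rn k v.val)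

/-- A word gives an isometry. -/
theorem exists_wn : ∀ w : List (ℕ × ℕ),
    (∀ p ∈ w, p.1 < 256 ∧ p.2 < 256 ∧ qn p.1 = true ∧ qn p.2 = true) →
    ∃ g : O, dsign g = 1 ∧ ∀ v, v < 256 → g.1 (dc v) = dc (wn w v) ∧ wn w v < 256 := by
  intro w
  induction w with
  | nil => exact fun _ => ⟨1, dsign_one, fun v hv => ⟨oG_one_apply _, hv⟩⟩
  | cons p w ih =>
    intro hp
    obtain ⟨g, hg, hgv⟩ := ih fun q hq => hp q (List.mem_cons_of_mem _ hq)
    obtain ⟨h1, h2, h3, h4⟩ := hp p List.mem_cons_self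
    obtain ⟨r, hr, hrv⟩ := exists_rrn h1 h2 h3 h4
    refine ⟨r * g, by rw [dsign_mul nondegP4 (Or.inr (by simp)), hr, hg, one_mul], fun v hv => ?_⟩
    obtain ⟨e, hlt⟩ := hgv v hv
    exact ⟨by rw [oG_mul_apply, e, hrv _ hlt]; rfl, g2n_lt h1 h2 hlt⟩

/-- The words of the normalisation. -/
def normW : List (List (ℕ × ℕ)) :=
  [[], [(68, 69), (100, 101)], [(34, 35), (98, 99)], [(38, 39), (70, 71)],
    [(50, 49), (84, 81)], [(50, 49), (84, 81), (68, 69), (100, 101)],
    [(50, 49), (84, 81), (34, 35), (98, 99)], [(50, 49), (84, 81), (38, 39), (70, 71)]]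

theorem normW_code : (∀ w ∈ normW, ∀ p ∈ w, p.1 < 256 ∧ p.2 < 256 ∧ qn p.1 = true ∧ qn p.2 = true) ∧
    ∀ u : Fin 256, Bn u.val 1 = false → Bn u.val 2 = false → Bn u.val 4 = false →
      ∃ w ∈ normW, ∃ k : Fin 5, ∀ v : Fin 256,
        wn w (sgn u.val (s0n v.val)) = rn k (wn w v.val) := by
  decide +kernel

theorem s0n_lt : ∀ v : Fin 256, s0n v.val < 256 := by decide +kernel

/-- The normal form. -/
theorem exists_nf (u : O) (h2 : u * u = 1) (h1 : u ≠ 1) (hd : dsign u = 1) :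
    ∃ r : O, dsign r = 1 ∧ ∃ k, IsR (r * u * r⁻¹) k := by
  obtain ⟨p, hp0, hpq, hpk, ⟨y, hy⟩, hts⟩ := exists_axis u h2 h1 hd
  obtain ⟨r, hr, hre⟩ := move_e hp0 hpq
  set h := r * u * r⁻¹ with hh
  have happ : ∀ x, h.1 (r.1 x) = r.1 (u.1 x) := fun x => by
    rw [hh, oG_mul_apply, oG_mul_apply, oG_inv_apply]
  have hpf : u.1 p = p := by
    rw [hy, map_add, ← oG_mul_apply, h2, oG_one_apply, add_comm]
  have he : h.1 (dc 1) = dc 1 := by rw [← hre, happ, hpf]
  have hmul : ∀ c : O, dsign c = 1 → dsign (c * r) = 1 := fun c hc => by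
    rw [dsign_mul nondegP4 (Or.inr (by simp)), hc, hr, one_mul]
  have hconj : ∀ c : O, c * r * u * (c * r)⁻¹ = c * h * c⁻¹ := fun c => by rw [hh]; group
  rcases nf_sigma h (by rw [hh]; calc
      r * u * r⁻¹ * (r * u * r⁻¹) = r * (u * u) * r⁻¹ := by group
      _ = 1 := by rw [h2]; group) he
      ⟨r.1 y, by rw [happ, ← map_add, ← hy, hre]⟩
      (fun x hx => by
        obtain ⟨x, rfl⟩ := r.1.surjective x
        rw [happ] at hx
        rw [← hre, polar_g]
        exact hpk x (r.1.injective hx))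
      (fun x hx => by
        obtain ⟨x, rfl⟩ := r.1.surjective x
        rw [← hre, polar_g] at hx
        rw [happ, ← map_add, r.2]
        exact hts x hx) with ⟨v, hv, hvx⟩ | ⟨c, hc, hce, v, hv1, hv2, hv4, hvx⟩
  · have hv0 : v ≠ 0 ∧ v ≠ dc 1 := by
      constructor <;> intro e <;> refine h1 ?_ <;>
        (have hone : h = 1 := ext_oG fun x => by
          rw [hvx, e, oG_one_apply]
          first | exact sg_zero x | exact sg_e x) <;>
        (calc u = r⁻¹ * h * r := by rw [hh]; group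
          _ = 1 := by rw [hone]; group)
    have hmove : ∀ (g : O) (t : ℕ) (k : Fin 5), t < 256 → dsign g = 1 → g.1 (dc 1) = dc 1 →
        (g.1 v = dc t ∨ g.1 v = dc t + dc 1) → Bn t 1 = false → (∀ x, rn k x = sgn t x) →
        IsR (g * r * u * (g * r)⁻¹) k := by
      intro g t k ht _ hge hgv htp hk x
      rw [hconj, oG_mul_apply, oG_mul_apply, hvx, sg_equiv g hge, oG_apply_inv, hk,
        ← sg_dc ht x.isLt]
      rcases hgv with e | e <;> rw [e]
      rw [sg_shift (by rw [Bp_dc ht (by norm_num), htp]; rfl)]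
    rcases zmod_cases (qP 4 v) with hq | hq
    · obtain ⟨g, hg, hge, hgv⟩ := move_two hv hq hv0.1 hv0.2
      exact ⟨g * r, hmul g hg, 0, hmove g 2 0 (by norm_num) hg hge hgv (by decide) fun _ => rfl⟩
    · obtain ⟨g, hg, hge, hgv⟩ := move_ns hv hq
      exact ⟨g * r, hmul g hg, 1, hmove g 34 1 (by norm_num) hg hge hgv (by decide) fun _ => rfl⟩
  · obtain ⟨hwp, hw⟩ := normW_code
    obtain ⟨w, hwm, k, hwk⟩ := hw (cd v) (code_Bn (by norm_num) hv1) (code_Bn (by norm_num) hv2)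
      (code_Bn (by norm_num) hv4)
    obtain ⟨g, hg, hgv⟩ := exists_wn w (hwp w hwm)
    refine ⟨g * c * r, hmul _ (by rw [dsign_mul nondegP4 (Or.inr (by simp)), hg, hc, one_mul]), k,
      fun x => ?_⟩
    rw [hconj, show g * c * h * (g * c)⁻¹ = g * (c * h * c⁻¹) * g⁻¹ by group, oG_mul_apply,
      oG_mul_apply]
    obtain ⟨y', hy'⟩ := dc_surj (g⁻¹.1 (dc x.val))
    have hx : x.val = wn w y'.val := dc_inj x.isLt (hgv _ y'.isLt).2 (by
      rw [← (hgv _ y'.isLt).1, hy', oG_apply_inv])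
    have hlt := s0n_lt y'
    rw [← hy', oG_mul_apply, oG_mul_apply, hvx, s0_dc y'.isLt, ← dc_cd v,
      sg_dc (cd v).isLt hlt, hx, ← hwk]
    refine (hgv _ ?_).1
    unfold sgn
    refine xor_lt (xor_lt hlt (by split_ifs <;> norm_num)) ?_
    split_ifs <;> first | (exact xor_lt (cd v).isLt (by norm_num)) | norm_num | exact (cd v).isLt

end Cfsg.Agent.CoOneWeak
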