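import Cfsg.Agent.CoOneType.Codes

/-!
Auxiliary functions on codes.
-/

set_option autoImplicit false

open Cfsg.Agent.CoOneType

namespace Cfsg.Agent.CoOneWeak

/-- The fixed codes. -/
def fxb (k : Fin 5) (x : ℕ) : Bool :=
  if k = 0 then x &&& 48 == 0 else x &&& 16 == 0 && x.testBit 1 == x.testBit 5

/-- All sums over a list. -/
def sums : List ℕ → List ℕ
  | v :: a => sums a ++ (sums a).map fun p => p ^^^ v
  | [] => [0]

end Cfsg.Agent.CoOneWeak
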