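import Cfsg.Agent.CoOneWeak.Out
import Cfsg.Agent.CoOneWeak.Reps
import Cfsg.Agent.CoOneWeak.TablesDefs

/-!
Conjugates acting as one of the representatives.
-/

set_option autoImplicit false
set_option maxRecDepth 100000

open Cfsg Cfsg.Agent.ThreeTrans.OrthCohom Cfsg.Agent.Classical.Quad QuadraticMap Cfsg.Agent.LargeExtra
open Cfsg.Agent.CoOneType

namespace Cfsg.Agent.CoOneWeak

theorem cd_val {v : ℕ} (hv : v < 256) : (cd (dc v)).val = v := congrArg Fin.val (cd_dc ⟨v, hv⟩)

theorem cd_xor (x y : V) : (cd (x + y)).val = (cd x).val ^^^ (cd y).val :=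
  dc_inj (cd _).isLt (xor_lt (cd x).isLt (cd y).isLt) (by rw [dc_cd, dc_xor, dc_cd, dc_cd])

theorem cd_eq_zero {x : V} : (cd x).val = 0 ↔ x = 0 :=
  ⟨fun h => by rw [← dc_cd x, h, dc_zero], fun h => by rw [h, ← dc_zero, cd_val (by norm_num)]⟩

theorem Bp_cd (x y : V) : Bp x y = bz (Bn (cd x).val (cd y).val) := by
  rw [← Bp_dc (cd x).isLt (cd y).isLt, dc_cd, dc_cd]

theorem q_cd (x : V) : qP 4 x = bz (qn (cd x).val) := by rw [← q_dc (cd x).isLt, dc_cd]

theorem N_add (g : O) (x y : V) : g.1 (x + y) + (x + y) = (g.1 x + x) + (g.1 y + y) := by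
  rw [map_add, add_add_add_comm]

namespace IsR

variable {u : O} {k : Fin 5} (h : IsR u k)
include h

theorem apply (x : V) : u.1 x = dc (rn k (cd x).val) := by rw [← h (cd x), dc_cd]

theorem fix_iff (x : V) : u.1 x = x ↔ rn k (cd x).val = (cd x).val := by
  rw [h.apply x]
  refine ⟨fun e => ?_, fun e => by rw [e, dc_cd]⟩
  have := congrArg (fun y => (cd y).val) e
  rwa [cd_val (rn_lt k (cd x))] at this

theorem range_mem (y : V) : (cd (u.1 y + y)).val ∈ uL k := by
  rw [cd_xor, h.apply y, cd_val (rn_lt k (cd y))]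
  exact img_code k (cd y)

theorem of_mem {x : V} (hx : (cd x).val ∈ uL k) : u.1 x = x ∧ ∃ y, u.1 y + y = x := by
  obtain ⟨-, h2, y, hy⟩ := uL_code k _ hx
  refine ⟨(h.fix_iff x).2 h2, dc y.val, ?_⟩
  rw [h y, ← dc_xor, hy, dc_cd]

theorem perp_fix {y : V} (hy : ∀ p : V, u.1 p = p → Bp p y = 0) : (cd y).val ∈ uL k :=
  perp_fix_code k (cd y) fun p hp => by
    rw [← bz_eq_zero, ← Bp_dc p.isLt (cd y).isLt, dc_cd]
    exact hy _ ((h p).trans (by rw [hp]))

end IsR

/-- A word commuting with a representative gives an isometry commuting with the involution. -/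
theorem exists_word {u : O} {k : Fin 5} (h : IsR u k) {w : List (ℕ × ℕ)}
    (hw : (∀ p ∈ w, p.1 < 256 ∧ p.2 < 256 ∧ qn p.1 = true ∧ qn p.2 = true) ∧
      ∀ v : Fin 256, wn w (rn k v.val) = rn k (wn w v.val)) :
    ∃ o : O, dsign o = 1 ∧ (∀ v, v < 256 → o.1 (dc v) = dc (wn w v) ∧ wn w v < 256) ∧
      ∀ x, o.1 (u.1 x) = u.1 (o.1 x) := by
  obtain ⟨o, ho, hov⟩ := exists_wn w hw.1
  refine ⟨o, ho, hov, fun x => ?_⟩
  have e : o.1 x = dc (wn w (cd x).val) := by rw [← (hov _ (cd x).isLt).1, dc_cd]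
  rw [h.apply x, (hov _ (rn_lt k (cd x))).1, hw.2, e, h ⟨_, (hov _ (cd x).isLt).2⟩]

theorem mem_sums {P : ℕ → Prop} (h0 : P 0) (hadd : ∀ a b, P a → P b → P (a ^^^ b)) :
    ∀ l : List ℕ, (∀ a ∈ l, P a) → ∀ p ∈ sums l, P p
  | [], _, p, hp => by
    rw [sums, List.mem_singleton] at hp
    rw [hp]; exact h0
  | v :: a, hl, p, hp => by
    rw [sums, List.mem_append, List.mem_map] at hp
    have ih := mem_sums h0 hadd a fun b hb => hl b (List.mem_cons_of_mem _ hb)
    rcases hp with hp | ⟨q, hq, rfl⟩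
    · exact ih p hp
    · exact hadd q v (ih q hq) (hl v List.mem_cons_self)

theorem fix_count : ∀ k : Fin 5, 16 ≤ (Finset.univ.filter fun v : Fin 256 => rn k v.val = v.val).card ∧
    (Finset.univ.filter fun v : Fin 256 => rn k v.val = v.val).card ≤ 64 ∧
    (2 ≤ k.val → (Finset.univ.filter fun v : Fin 256 => rn k v.val = v.val).card = 16) := by
  decide +kernel

theorem card_fix {u : O} {k : Fin 5} (h : IsR u k) :
    Nat.card {x : V // u.1 x = x} =
      (Finset.univ.filter fun v : Fin 256 => rn k v.val = v.val).card := by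
  rw [← Fintype.card_coe, ← Nat.card_eq_fintype_card]
  refine Nat.card_congr
    { toFun := fun x => ⟨cd x.1, by rw [Finset.mem_filter]; exact ⟨Finset.mem_univ _, (h.fix_iff x.1).1 x.2⟩⟩
      invFun := fun v => ⟨dc v.1.val, (h v.1).trans (by rw [(Finset.mem_filter.1 v.2).2])⟩
      left_inv := fun x => Subtype.ext (dc_cd x.1)
      right_inv := fun v => Subtype.ext (cd_dc v.1) }

namespace CoW

variable {G : Type*} [Group G] [Finite G] {z : G} {S : CoW z} {g : G} (O' : S.Out g)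
include O'

/-- In suitable coordinates the conjugate acts as a representative. -/
theorem exists_twist : ∃ r, dsign r = 1 ∧ (S.twist r).Out g ∧
    ∃ k, IsR ((S.twist r).act (cj z g)) k := by
  obtain ⟨r, hr, k, hk⟩ := exists_nf (S.act (cj z g)) (act_sq O') (act_ne O') (S.act_even _ O'.comm)
  exact ⟨r, hr, out_twist S r O', k, hk⟩

open scoped _root_.Classical in
theorem fix_le_cn : Nat.card {x : V // (S.act (cj z g)).1 x = x} ≤ 2 * Nat.card {x : V // S.Cn g x} := by
  by_cases hall : ∀ x, (S.act (cj z g)).1 x = x → S.Cn g x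
  · refine le_trans ?_ (Nat.le_mul_of_pos_left _ two_pos)
    exact Nat.card_le_card_of_injective (fun x => ⟨x.1, hall x.1 x.2⟩)
      fun a b h => Subtype.ext (congrArg (fun p => (p.1 : V)) h)
  push Not at hall
  obtain ⟨x₀, hx₀, hn₀⟩ := hall
  have key := Nat.card_le_card_of_injective
    (fun x : {x : V // (S.act (cj z g)).1 x = x} => if h : S.Cn g x.1
      then ((⟨x.1, h⟩ : {x : V // S.Cn g x}), (0 : ZMod 2))
      else (⟨x.1 + x₀, cn_two O' x.2 hx₀ h hn₀⟩, 1)) ?_
  · rwa [Nat.card_prod, Nat.card_zmod, mul_comm] at key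
  · intro a b h
    dsimp only at h
    split_ifs at h
    · exact Subtype.ext (congrArg (fun p => (p.1 : V)) h)
    · exact absurd (congrArg Prod.snd h) zero_ne_one
    · exact absurd (congrArg Prod.snd h) one_ne_zero
    · exact Subtype.ext (add_right_cancel (congrArg (fun p => (p.1 : V)) h))

/-- The part of `O_2(C(s))` centralising `z` has order between 16 and 128. -/
theorem card_pa_bounds : 16 ≤ Nat.card ↥(S.PA g) ∧ Nat.card ↥(S.PA g) ≤ 128 := by
  obtain ⟨r, -, -, k, hk⟩ := exists_twist (swap O')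
  have O₁ := out_twist S r O'
  suffices h : 16 ≤ Nat.card ↥((S.twist r).PA g) ∧ Nat.card ↥((S.twist r).PA g) ≤ 128 from h
  rw [card_pa O₁]
  have h1 := fix_le_cn (swap O₁)
  have h2 : Nat.card {x : V // (S.twist r).Cn g⁻¹ x} ≤
      Nat.card {x : V // ((S.twist r).act (cj z g⁻¹)).1 x = x} :=
    Nat.card_le_card_of_injective (fun x => ⟨x.1, cn_fix (swap O₁) x.2⟩)
      fun a b h => Subtype.ext (congrArg (fun p => (p.1 : V)) h)
  rw [card_fix hk] at h1 h2
  obtain ⟨h3, h4, -⟩ := fix_count k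
  omega

end CoW

end Cfsg.Agent.CoOneWeak
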