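import Cfsg.Agent.CoOneWeak.NoLow

/-!
No conjugate of `z` centralises `z` outside `O_2(C(z))`.
-/

set_option autoImplicit false
set_option maxRecDepth 100000

open Cfsg Cfsg.Agent.ThreeTrans.OrthCohom Cfsg.Agent.Classical.Quad QuadraticMap Cfsg.Agent.LargeExtra
open Cfsg.Agent.CoOneType

namespace Cfsg.Agent.CoOneWeak

/-- The four complementary vectors. -/
def ev (k : Fin 5) (i : Fin 4) : ℕ := (vs4 k).getD i.val 0

theorem ev_code : ∀ k : Fin 5, 2 ≤ k.val → (∀ i, ev k i < 256 ∧ ev k i ∈ vs4 k) ∧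
    (∀ v ∈ vs4 k, ∃ i, ev k i = v) ∧
    ∀ c₀ c₁ c₂ c₃ : Bool, (c₀ || c₁ || c₂ || c₃) = true →
      ((if c₀ then ev k 0 else 0) ^^^ (if c₁ then ev k 1 else 0)) ^^^
      ((if c₂ then ev k 2 else 0) ^^^ (if c₃ then ev k 3 else 0)) ∉ uL k := by decide +kernel

theorem uL_TI : ∀ k : Fin 5, 2 ≤ k.val → ∀ x ∈ uL k, ∀ y ∈ uL k, Bn x y = false := by decide +kernel

theorem uL_sing : ∀ k : Fin 5, k = 2 ∨ k = 3 → ∀ x ∈ uL k, qn x = false := by decide +kernel

/-- The Pfaffian of the entries. -/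
def pfm (M : Fin 4 → Fin 4 → ZMod 2) : ZMod 2 :=
  M 0 1 * M 2 3 + M 0 2 * M 1 3 + M 0 3 * M 1 2

/-- The polar form of the Pfaffian. -/
def polm (M N : Fin 4 → Fin 4 → ZMod 2) : ZMod 2 :=
  M 0 1 * N 2 3 + M 2 3 * N 0 1 + M 0 2 * N 1 3 + M 1 3 * N 0 2 + M 0 3 * N 1 2 + M 1 2 * N 0 3

theorem pfm_zero (M : Fin 4 → Fin 4 → ZMod 2) (hd : ∀ i, M i i = 0) (hs : ∀ i j, M i j = M j i)
    (h : pfm M = 0) : ∃ c : Fin 4 → Bool, (c 0 || c 1 || c 2 || c 3) = true ∧
      ∀ j, ((bz (c 0) * M 0 j + bz (c 1) * M 1 j) + (bz (c 2) * M 2 j + bz (c 3) * M 3 j)) = 0 := by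
  have key : ∀ a01 a02 a03 a12 a13 a23 : ZMod 2, a01 * a23 + a02 * a13 + a03 * a12 = 0 →
      ∃ c0 c1 c2 c3 : Bool, (c0 || c1 || c2 || c3) = true ∧
        (bz c0 * 0 + bz c1 * a01) + (bz c2 * a02 + bz c3 * a03) = 0 ∧
        (bz c0 * a01 + bz c1 * 0) + (bz c2 * a12 + bz c3 * a13) = 0 ∧
        (bz c0 * a02 + bz c1 * a12) + (bz c2 * 0 + bz c3 * a23) = 0 ∧
        (bz c0 * a03 + bz c1 * a13) + (bz c2 * a23 + bz c3 * 0) = 0 := by decide +kernel
  obtain ⟨c0, c1, c2, c3, hne, h0, h1, h2, h3⟩ := key _ _ _ _ _ _ h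
  refine ⟨![c0, c1, c2, c3], hne, fun j => ?_⟩
  fin_cases j
  · simpa [hd 0, hs 1 0, hs 2 0, hs 3 0] using h0
  · simpa [hd 1, hs 2 1, hs 3 1] using h1
  · simpa [hd 2, hs 3 2] using h2
  · simpa [hd 3] using h3

theorem ne_classes {H : Type*} [Group H] {s : H} (hs : s * s = 1) {r x : H}
    (hx : x = r ∨ x = r * s) {w : H} (h0 : r ≠ w) (h1 : r ≠ w * s) {v : H} (hv : v = 1 ∨ v = s) :
    x ≠ w * v := by
  intro h
  rcases hx with rfl | rfl <;> rcases hv with rfl | rfl
  · exact h0 (h.trans (mul_one w))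
  · exact h1 h
  · rw [mul_one] at h
    exact h1 (by rw [← h, mul_assoc, hs, mul_one])
  · exact h0 (mul_right_cancel h)

namespace CoW

variable {G : Type*} [Group G] [Finite G] {z : G} {S : CoW z} {g : G} (hNR : S.NR) (O' : S.Out g)
include hNR O'

/-- Every conjugate acts with a fixed space of order 16. -/
theorem card_fix_eq : Nat.card {x : V // (S.act (cj z g)).1 x = x} = 16 := by
  obtain ⟨r, -, O₂, k, hk⟩ := exists_twist O'
  rw [← (fix_count k).2.2 (not_low O₂ (hNR.twist r) hk), ← card_fix hk]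
  refine Nat.card_congr
    { toFun := fun x => ⟨r.1 x.1, by
        show (r * S.act (cj z g) * r⁻¹).1 (r.1 x.1) = r.1 x.1
        rw [oG_mul_apply, oG_mul_apply, oG_inv_apply, x.2]⟩
      invFun := fun x => ⟨r⁻¹.1 x.1, r.1.injective (by
        have h : (r * S.act (cj z g) * r⁻¹).1 x.1 = x.1 := x.2
        rw [oG_mul_apply, oG_mul_apply] at h
        rw [h, oG_apply_inv])⟩
      left_inv := fun x => Subtype.ext (oG_inv_apply _ _)
      right_inv := fun x => Subtype.ext (oG_apply_inv _ _) }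

/-- The two extraspecial groups meet trivially. -/
theorem d_one {d : G} (hd : d ∈ oc z) (hd' : d ∈ oc (cj z g)) : d = 1 := by
  obtain ⟨r, -, O₂, k, hk⟩ := exists_twist O'
  exact d_one_of_big (hNR.twist r) O₂ hk (not_low O₂ (hNR.twist r) hk) hd hd'

/-- Every element centralising `z` is a commutator with `z` up to `s`. -/
theorem pa_range {r : G} (hr : r ∈ S.PA g) :
    ∃ y ∈ oc (cj z g), z * y * z⁻¹ * y⁻¹ = r ∨ z * y * z⁻¹ * y⁻¹ = r * cj z g := by
  obtain ⟨r₀, -, O₀, k, hk⟩ := exists_twist (swap O')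
  have O₁ := out_twist S r₀ O'
  obtain ⟨hq, hqc⟩ := pa_pull O' hr
  have hfix := (hk.fix_iff _).1 (cn_fix O₀ ((cn_iff O₀ hq).2 hqc))
  obtain ⟨-, w, hw⟩ := hk.of_mem (big_fix_code k (not_low O₀ (hNR.twist r₀) hk) _ hfix)
  exact (pa_commutator O₁ hr hw)

/-- An element `r` with `z * r` conjugate to `z` acts as a conjugate of `z`. -/
theorem out_of_conj {r : G} (hr : r ∈ S.PA g) (hr1 : r ≠ 1) (h : IsConj z (z * r)) :
    ∃ k, S.Out k ∧ S.act (cj z k) = S.act r := by
  obtain ⟨k, hk⟩ := isConj_iff.1 h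
  have hrQ : r ∉ oc z := fun hm => hr1 (d_one hNR O' hm hr.1)
  refine ⟨k, ⟨?_, fun hm => hrQ ?_⟩, ?_⟩
  · rw [hk]; exact Commute.mul_left (Commute.refl z) (pa_comm hr)
  · rw [hk] at hm
    simpa [← mul_assoc, S.zz] using mul_mem S.zmem hm
  · rw [hk, S.act_mul rfl (pa_comm hr), S.act_inner S.zmem, one_mul]

omit hNR O' in
theorem conj_of_comm (S : CoW z) {y t : G} (ht : z * y * z⁻¹ * y⁻¹ = t) : IsConj z (z * t) :=
  isConj_iff.2 ⟨y, by
    rw [← ht, inv_eq_of_mul_eq_one_right S.zz]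
    calc y * z * y⁻¹ = z * z * (y * z * y⁻¹) := by rw [S.zz, one_mul]
      _ = z * (z * y * z * y⁻¹) := by group⟩

omit hNR in
theorem conj_of_comm_s (hsz : IsConj z (cj z g * z)) {y t : G} (hy : y ∈ oc (cj z g))
    (ht : z * y * z⁻¹ * y⁻¹ = t) : IsConj z (z * (t * cj z g)) := by
  refine hsz.trans (isConj_iff.2 ⟨y, ?_⟩)
  rw [← ht, inv_eq_of_mul_eq_one_right S.zz, O'.comm]
  calc y * (z * cj z g) * y⁻¹ = z * z * (y * z * (cj z g * y⁻¹)) := by rw [S.zz]; group
    _ = z * (z * y * z * y⁻¹ * cj z g) := by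
      rw [show cj z g * y⁻¹ = y⁻¹ * cj z g from
        ((Commute.inv_left (show Commute y (cj z g) from (sset O').comm_z hy)).symm).eq]
      group

/-- The representatives with totally singular commutator space do not occur. -/
theorem not_singular {k : Fin 5} (hk23 : k = 2 ∨ k = 3) (hk : IsR (S.act (cj z g)) k) : False := by
  classical
  have hk2 : 2 ≤ k.val := by rcases hk23 with rfl | rfl <;> decide
  obtain ⟨hev, hev', hcomb⟩ := ev_code k hk2
  set u := S.act (cj z g)
  have hUcn : ∀ x : V, (cd x).val ∈ uL k → S.Cn g x := by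
    intro x hx
    obtain ⟨-, y, hy⟩ := hk.of_mem hx
    have hq : qP 4 x = 0 := by rw [q_cd, uL_sing k hk23 _ hx]; rfl
    rw [← hy] at hq ⊢
    exact cn_range O' y hq
  have hfixU : ∀ r ∈ S.PA g, ∀ x : V, (cd x).val ∈ uL k → (S.act r).1 x = x := by
    intro r hr x hx
    obtain ⟨e, he, he', hpe⟩ := pa_move O' hr (hUcn x hx)
    rw [d_one hNR O' he he', S.pr_one] at hpe
    exact v_eq_of_add hpe.symm
  have hperpU : ∀ y : V, (∀ p : V, (cd p).val ∈ uL k → Bp p y = 0) → (cd y).val ∈ uL k := fun y h =>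
    perp_U_code k hk2 (cd y) fun p hp => by
      rw [← bz_eq_zero, ← Bp_dc (uL_code k p hp).1 (cd y).isLt, dc_cd]
      exact h _ (by rwa [cd_val (uL_code k p hp).1])
  have hN : ∀ r ∈ S.PA g, ∀ x : V, (cd ((S.act r).1 x + x)).val ∈ uL k := fun r hr x =>
    hperpU _ fun p hp => by
      rw [Bp_add_right]
      conv_lhs => arg 1; arg 1; rw [← hfixU r hr p hp]
      rw [polar_g]
      exact (by decide : ∀ a : ZMod 2, a + a = 0) _
  have hTI : ∀ x y : V, (cd x).val ∈ uL k → (cd y).val ∈ uL k → Bp x y = 0 := fun x y hx hy => by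
    rw [Bp_cd, uL_TI k hk2 _ hx _ hy]; rfl
  let M : G → Fin 4 → Fin 4 → ZMod 2 := fun r i j =>
    Bp ((S.act r).1 (dc (ev k i)) + dc (ev k i)) (dc (ev k j))
  have hself : ∀ r ∈ S.PA g, ∀ x y : V,
      Bp ((S.act r).1 x + x) y = Bp ((S.act r).1 y + y) x := by
    intro r hr x y
    have h0 := hTI _ _ (hN r hr x) (hN r hr y)
    rw [Bp_add_left, Bp_add_right, Bp_add_right, polar_g] at h0
    rw [Bp_add_left, Bp_add_left, Bp_comm ((S.act r).1 y) x, Bp_comm y x]
    revert h0
    generalize Bp x y = a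
    generalize Bp ((S.act r).1 x) y = b
    generalize Bp x ((S.act r).1 y) = c
    revert a b c
    decide
  have hdiag : ∀ r ∈ S.PA g, ∀ x : V, Bp ((S.act r).1 x + x) x = 0 := by
    intro r hr x
    have h0 : qP 4 ((S.act r).1 x + x) = 0 := by
      rw [q_cd, uL_sing k hk23 _ (hN r hr x)]; rfl
    rw [q_add, (S.act r).2] at h0
    rw [Bp_add_left, Bp_self, add_zero]
    revert h0
    generalize qP 4 x = a
    generalize Bp ((S.act r).1 x) x = b
    revert a b
    decide
  have hMadd : ∀ r ∈ S.PA g, ∀ t ∈ S.PA g, ∀ i j, M (r * t) i j = M r i j + M t i j := by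
    intro r hr t ht i j
    simp only [M]
    rw [← Bp_add_left, S.act_mul (pa_comm hr) (pa_comm ht), oG_mul_apply]
    congr 1
    have h1 := hfixU r hr _ (hN t ht (dc (ev k i)))
    rw [map_add] at h1
    calc (S.act r).1 ((S.act t).1 (dc (ev k i))) + dc (ev k i)
        = ((S.act r).1 ((S.act t).1 (dc (ev k i))) + (S.act r).1 (dc (ev k i))) +
            ((S.act r).1 (dc (ev k i)) + dc (ev k i)) := by
          rw [add_assoc, ← add_assoc ((S.act r).1 (dc (ev k i))), v_add_self, zero_add]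
      _ = _ := by rw [h1, add_comm]
  -- rank four
  have hrank : ∀ r ∈ S.PA g, r ≠ 1 → IsConj z (z * r) → pfm (M r) = 1 := by
    intro r hr hr1 hconj
    refine (zmod_cases _).resolve_left fun hp => ?_
    obtain ⟨c, hcne, hc⟩ := pfm_zero (M r) (fun i => hdiag r hr _) (fun i j => hself r hr _ _) hp
    obtain ⟨m, Om, hmact⟩ := out_of_conj hNR O' hr hr1 hconj
    set v : V := (bz (c 0) • dc (ev k 0) + bz (c 1) • dc (ev k 1)) +
      (bz (c 2) • dc (ev k 2) + bz (c 3) • dc (ev k 3)) with hv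
    have hvU : (cd v).val ∉ uL k := by
      rw [hv, bz_smul, bz_smul, bz_smul, bz_smul, ← dc_xor, ← dc_xor, ← dc_xor, cd_val]
      · exact hcomb _ _ _ _ hcne
      · refine xor_lt (xor_lt ?_ ?_) (xor_lt ?_ ?_) <;>
          (split_ifs <;> first | exact (hev _).1 | norm_num)
    have hNv : (S.act r).1 v + v = 0 := by
      refine eq_zero_of_polar nondegP4 fun y => ?_
      show Bp ((S.act r).1 v + v) y = 0
      rw [hself r hr, hv]
      have hj : ∀ i, Bp ((S.act r).1 y + y) (dc (ev k i)) =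
          Bp ((S.act r).1 (dc (ev k i)) + dc (ev k i)) y := fun i => hself r hr _ _
      obtain ⟨p, hp4, hpU⟩ := (vs4_code k hk2).2 (cd y)
      have hp256 := mem_sums (P := fun p => p < 256) (by norm_num) (fun a b ha hb => xor_lt ha hb)
        (vs4 k) (fun a ha => ((vs4_code k hk2).1 a ha).1) p hp4
      have hy : y = dc ((cd y).val ^^^ p) + dc p := by
        rw [dc_xor, dc_cd, add_assoc, v_add_self, add_zero]
      simp only [Bp_add_right, Bp_smul_right, hj]
      rw [hy]
      have h0 : ∀ i, Bp ((S.act r).1 (dc (ev k i)) + dc (ev k i)) (dc ((cd y).val ^^^ p)) = 0 := fun i =>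
        hTI _ _ (hN r hr _) (by rw [cd_val (xor_lt (cd y).isLt hp256)]; exact hpU)
      simp only [Bp_add_right, h0, zero_add]
      refine (mem_sums (P := fun p => p < 256 ∧
        (bz (c 0) * Bp ((S.act r).1 (dc (ev k 0)) + dc (ev k 0)) (dc p) +
          bz (c 1) * Bp ((S.act r).1 (dc (ev k 1)) + dc (ev k 1)) (dc p)) +
        (bz (c 2) * Bp ((S.act r).1 (dc (ev k 2)) + dc (ev k 2)) (dc p) +
          bz (c 3) * Bp ((S.act r).1 (dc (ev k 3)) + dc (ev k 3)) (dc p)) = 0)
        ⟨by norm_num, by simp [dc_zero, Bp_zero_right]⟩ (fun a b ha hb => ⟨xor_lt ha.1 hb.1, ?_⟩)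
        (vs4 k) (fun a ha => ?_) p hp4).2
      · simp only [dc_xor, Bp_add_right, mul_add]
        linear_combination ha.2 + hb.2
      · obtain ⟨j, rfl⟩ := hev' a ha
        exact ⟨(hev j).1, hc j⟩
    have h16 := card_fix_eq hNR Om
    rw [hmact] at h16
    have hu16 := card_fix_eq hNR O'
    have key := Nat.card_le_card_of_injective
      (fun o : Option {x : V // u.1 x = x} => (match o with
        | none => ⟨v, v_eq_of_add hNv⟩
        | some x => ⟨x.1, hfixU r hr x.1 (big_fix_code k hk2 _ ((hk.fix_iff x.1).1 x.2))⟩ :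
          {x : V // (S.act r).1 x = x})) (by
      rintro (_ | x) (_ | y) h
      · rfl
      · exact absurd (big_fix_code k hk2 _ ((hk.fix_iff _).1 y.2))
          (by rw [← show v = y.1 from congrArg Subtype.val h]; exact hvU)
      · exact absurd (big_fix_code k hk2 _ ((hk.fix_iff _).1 x.2))
          (by rw [show x.1 = v from congrArg Subtype.val h]; exact hvU)
      · exact congrArg some (Subtype.ext (congrArg (fun p => (p.1 : V)) h)))
    rw [h16, Finite.card_option, hu16] at key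
    omega
  have hs := s_mem O'
  have hs1 : pfm (M (cj z g)) = 1 := by
    obtain ⟨y, -, e⟩ := pa_range hNR O' hs
    refine (zmod_cases _).resolve_left fun hp => ?_
    -- the conjugate itself fixes exactly the commutator space
    obtain ⟨c, hcne, hc⟩ := pfm_zero (M (cj z g)) (fun i => hdiag _ hs _) (fun i j => hself _ hs _ _) hp
    have hb : ∀ c₀ c₁ c₂ c₃ : Bool, (c₀ || c₁ || c₂ || c₃) = true → ¬ ∀ j : Fin 4,
        (bz c₀ * bz (Bn (rn k (ev k 0) ^^^ ev k 0) (ev k j)) +
          bz c₁ * bz (Bn (rn k (ev k 1) ^^^ ev k 1) (ev k j))) +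
        (bz c₂ * bz (Bn (rn k (ev k 2) ^^^ ev k 2) (ev k j)) +
          bz c₃ * bz (Bn (rn k (ev k 3) ^^^ ev k 3) (ev k j))) = 0 := by
      rcases hk23 with rfl | rfl <;> decide +kernel
    refine hb _ _ _ _ hcne fun j => ?_
    have hM : ∀ i, M (cj z g) i j = bz (Bn (rn k (ev k i) ^^^ ev k i) (ev k j)) := fun i => by
      show Bp _ _ = _
      rw [show (S.act (cj z g)).1 (dc (ev k i)) = dc (rn k (ev k i)) from hk ⟨_, (hev i).1⟩, ← dc_xor,
        Bp_dc (xor_lt (rn_lt k ⟨_, (hev i).1⟩) (hev i).1) (hev j).1]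
    rw [← hM, ← hM, ← hM, ← hM]
    exact hc j
  have hinj : ∀ r ∈ S.PA g, ∀ t ∈ S.PA g, M r = M t → r = t := by
    intro r hr t ht he
    refine act_inj O' (fun d hd hd' => d_one hNR O' hd hd') hr ht (ext_oG fun x => ?_)
    obtain ⟨p, hp, hpU⟩ := (vs4_code k hk2).2 (cd x)
    have hpv := mem_sums (P := fun p => p < 256 ∧ (S.act r).1 (dc p) = (S.act t).1 (dc p))
      ⟨by norm_num, by rw [dc_zero, map_zero, map_zero]⟩
      (fun a b ha hb => ⟨xor_lt ha.1 hb.1, by rw [dc_xor, map_add, map_add, ha.2, hb.2]⟩)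
      (vs4 k) (fun a ha => by
        obtain ⟨i, rfl⟩ := hev' a ha
        refine ⟨(hev i).1, add_right_cancel (b := dc (ev k i)) ?_⟩
        refine v_eq_of_add (eq_zero_of_polar nondegP4 fun y => ?_)
        show Bp _ y = 0
        obtain ⟨p', hp', hpU'⟩ := (vs4_code k hk2).2 (cd y)
        have hp'256 := mem_sums (P := fun p => p < 256) (by norm_num) (fun a b ha hb => xor_lt ha hb)
          (vs4 k) (fun a ha => ((vs4_code k hk2).1 a ha).1) p' hp'
        have hy : y = dc ((cd y).val ^^^ p') + dc p' := by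
          rw [dc_xor, dc_cd, add_assoc, v_add_self, add_zero]
        rw [hy, Bp_add_right, Bp_add_left,
          hTI _ _ (hN r hr _) (by rw [cd_val (xor_lt (cd y).isLt hp'256)]; exact hpU'),
          hTI _ _ (hN t ht _) (by rw [cd_val (xor_lt (cd y).isLt hp'256)]; exact hpU'), zero_add,
          zero_add]
        refine (mem_sums (P := fun p => p < 256 ∧ Bp ((S.act r).1 (dc (ev k i)) + dc (ev k i) +
            ((S.act t).1 (dc (ev k i)) + dc (ev k i))) (dc p) = 0)
          ⟨by norm_num, by rw [dc_zero, Bp_zero_right]⟩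
          (fun a b ha hb => ⟨xor_lt ha.1 hb.1, by rw [dc_xor, Bp_add_right, ha.2, hb.2, add_zero]⟩)
          (vs4 k) (fun a ha => ?_) p' hp').2
        obtain ⟨j, rfl⟩ := hev' a ha
        refine ⟨(hev j).1, ?_⟩
        rw [Bp_add_left]
        show M r i j + M t i j = 0
        rw [he]
        exact (by decide : ∀ a : ZMod 2, a + a = 0) _)
      p hp
    have hl : (cd x).val ^^^ p < 256 := xor_lt (cd x).isLt hpv.1
    have e : x = dc ((cd x).val ^^^ p) + dc p := by rw [dc_xor, dc_cd, add_assoc, v_add_self, add_zero]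
    rw [e, map_add, map_add, hpv.2,
      hfixU r hr (dc ((cd x).val ^^^ p)) (by rw [cd_val hl]; exact hpU),
      hfixU t ht (dc ((cd x).val ^^^ p)) (by rw [cd_val hl]; exact hpU)]
  let P : G → G → ZMod 2 := fun r t => polm (M r) (M t)
  have hPadd : ∀ r, ∀ a ∈ S.PA g, ∀ b ∈ S.PA g, P r (a * b) = P r a + P r b := fun r a ha b hb => by
    simp only [P, polm, hMadd a ha b hb]; ring
  have hPsymm : ∀ r t, P r t = P t r := fun r t => by simp only [P, polm]; ring
  have hpf : ∀ a ∈ S.PA g, ∀ b ∈ S.PA g, pfm (M (a * b)) = pfm (M a) + pfm (M b) + P a b :=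
    fun a ha b hb => by simp only [P, polm, pfm, hMadd a ha b hb]; ring
  have hPs : P (cj z g) (cj z g) = 0 := by
    simp only [P, polm]
    generalize M (cj z g) 0 1 = a
    generalize M (cj z g) 2 3 = b
    generalize M (cj z g) 0 2 = c
    generalize M (cj z g) 1 3 = d
    generalize M (cj z g) 0 3 = e
    generalize M (cj z g) 1 2 = f
    revert a b c d e f
    decide
  -- the elements perpendicular to `s`
  let L : Finset G := (Set.toFinite {r : G | r ∈ S.PA g ∧ P (cj z g) r = 0}).toFinset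
  have hL : ∀ {r}, r ∈ L ↔ r ∈ S.PA g ∧ P (cj z g) r = 0 := fun {r} => by simp [L]
  have hLcard : Nat.card ↥(S.PA g) ≤ 2 * L.card := by
    by_cases hall : ∀ r ∈ S.PA g, P (cj z g) r = 0
    · refine le_trans ?_ (Nat.le_mul_of_pos_left _ two_pos)
      rw [← Fintype.card_coe, ← Nat.card_eq_fintype_card]
      exact Nat.card_le_card_of_injective (fun r => ⟨r.1, hL.2 ⟨r.2, hall _ r.2⟩⟩)
        fun a b h => Subtype.ext (congrArg (fun p => (p.1 : G)) h)
    push Not at hall
    obtain ⟨r₀, hr₀, hP₀⟩ := hall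
    have key := Nat.card_le_card_of_injective (fun r : ↥(S.PA g) =>
      if h : P (cj z g) r.1 = 0 then ((⟨r.1, hL.2 ⟨r.2, h⟩⟩ : ↥L), (0 : ZMod 2))
      else (⟨r.1 * r₀, hL.2 ⟨mul_mem r.2 hr₀, by
        rw [hPadd _ _ r.2 _ hr₀, zmod_ne_zero _ h, zmod_ne_zero _ hP₀]; decide⟩⟩, 1)) (by
      intro a b h
      dsimp only at h
      split_ifs at h
      · exact Subtype.ext (congrArg (fun p => (p.1 : G)) h)
      · exact absurd (congrArg Prod.snd h) zero_ne_one
      · exact absurd (congrArg Prod.snd h) one_ne_zero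
      · exact Subtype.ext (mul_right_cancel (congrArg (fun p => (p.1 : G)) h)))
    rwa [Nat.card_prod, Nat.card_zmod, Nat.card_eq_fintype_card (α := ↥L), Fintype.card_coe,
      mul_comm] at key
  have pick : ∀ X : Finset G, X.card < L.card → ∃ r ∈ L, r ∉ X := fun X hX =>
    Finset.exists_mem_notMem_of_card_lt_card hX
  by_cases hsz : IsConj z (cj z g * z)
  · obtain ⟨r, hrL, hrX⟩ := pick {1, cj z g} (lt_of_le_of_lt Finset.card_le_two
      (by have := (card_pa_bounds O').1; omega))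
    simp only [Finset.mem_insert, Finset.mem_singleton, not_or] at hrX
    obtain ⟨hr, hPr⟩ := hL.1 hrL
    obtain ⟨y, hy, ht⟩ := pa_range hNR O' hr
    have hrs : r * cj z g ≠ 1 := fun e => hrX.2 ((eq_inv_of_mul_eq_one_left e).trans (sinv O'))
    have hboth : pfm (M r) = 1 ∧ pfm (M (r * cj z g)) = 1 := by
      rcases ht with e | e
      · exact ⟨hrank r hr hrX.1 (conj_of_comm S e),
          hrank _ (mul_mem hr hs) hrs (conj_of_comm_s O' hsz hy e)⟩
      · refine ⟨hrank r hr hrX.1 ?_, hrank _ (mul_mem hr hs) hrs (conj_of_comm S e)⟩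
        have := conj_of_comm_s O' hsz hy e
        rwa [mul_assoc r, ss O', mul_one] at this
    have := hboth.2
    rw [hpf r hr _ hs, hboth.1, hs1, hPsymm, hPr] at this
    exact absurd this (by decide)
  · -- all of the fixed space is centralised on both sides
    have hall : ∀ x : V, (S.act (cj z g⁻¹)).1 x = x → S.Cn g⁻¹ x := by
      intro x hx
      by_contra hn
      refine hsz ?_
      exact sz_swap O' (sz_conj_of_moved (swap O') hx hn)
    have h32 : Nat.card ↥(S.PA g) = 32 := by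
      rw [card_pa O',
        Nat.card_congr (Equiv.subtypeEquivRight fun x => ⟨cn_fix (swap O'), hall x⟩),
        card_fix_eq hNR (swap O')]
    let sp : ZMod 2 → G := fun e => zp (cj z g) e
    have hsp : ∀ e, sp e ∈ S.PA g := fun e => by
      rcases zmod_cases e with rfl | rfl <;> simp only [sp, zp_zero, zp_one]
      exacts [one_mem _, hs]
    -- a chosen member in each class
    have hsel : ∀ r ∈ L, r ≠ 1 → r ≠ cj z g → ∃ a y, y ∈ oc (cj z g) ∧ a ∈ L ∧
        z * y * z⁻¹ * y⁻¹ = a ∧ pfm (M a) = 1 ∧ (a = r ∨ a = r * cj z g) := by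
      intro r hrL h1 h2
      obtain ⟨hr, hPr⟩ := hL.1 hrL
      obtain ⟨y, hy, ht⟩ := pa_range hNR O' hr
      rcases ht with e | e
      · exact ⟨r, y, hy, hrL, e, hrank r hr h1 (conj_of_comm S e), Or.inl rfl⟩
      · refine ⟨_, y, hy, hL.2 ⟨mul_mem hr hs, by rw [hPadd _ _ hr _ hs, hPr, hPs, add_zero]⟩, e,
          hrank _ (mul_mem hr hs) (fun e' => h2 ((eq_inv_of_mul_eq_one_left e').trans (sinv O')))
            (conj_of_comm S e), Or.inr rfl⟩
    obtain ⟨a₀, ha₀, ha₀X⟩ := pick {1, cj z g} (lt_of_le_of_lt Finset.card_le_two (by omega))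
    simp only [Finset.mem_insert, Finset.mem_singleton, not_or] at ha₀X
    obtain ⟨a, ya, hya, haL, hta, hpa, haa⟩ := hsel a₀ ha₀ ha₀X.1 ha₀X.2
    obtain ⟨b₀, hb₀, hb₀X⟩ := pick {1, cj z g, a, a * cj z g}
      (lt_of_le_of_lt Finset.card_le_four (by omega))
    simp only [Finset.mem_insert, Finset.mem_singleton, not_or] at hb₀X
    obtain ⟨b, yb, hyb, hbL, htb, hpb, hbb⟩ := hsel b₀ hb₀ hb₀X.1 hb₀X.2.1
    have hcX : ({1, cj z g, a, a * cj z g, b, b * cj z g, b * a, b * a * cj z g} : Finset G).card ≤ 8 := by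
      iterate 7 refine (Finset.card_insert_le _ _).trans (Nat.succ_le_succ ?_)
      simp
    obtain ⟨c₀, hc₀, hc₀X⟩ := pick _ (lt_of_le_of_lt hcX (by omega))
    simp only [Finset.mem_insert, Finset.mem_singleton, not_or] at hc₀X
    obtain ⟨c, yc, hyc, hcL, htc, hpc, hcc⟩ := hsel c₀ hc₀ hc₀X.1 hc₀X.2.1
    obtain ⟨haA, hPa⟩ := hL.1 haL
    obtain ⟨hbA, hPb⟩ := hL.1 hbL
    obtain ⟨hcA, hPc⟩ := hL.1 hcL
    -- exponents
    have hexp : ∀ y ∈ oc (cj z g), ∀ t ∈ S.PA g, ∃ e, y * t * y⁻¹ = t * sp e := by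
      intro y hy t ht
      have hst : Commute (cj z g) t := Commute.symm (pa_s O' ht)
      rcases pa_comm_cases O' hy ht.1 with e | e
      · exact ⟨0, by simp only [sp, zp_zero, mul_one]; exact mul_inv_eq_one.1 e⟩
      · exact ⟨1, by simp only [sp, zp_one]; rw [mul_inv_eq_iff_eq_mul.1 e]; exact hst.eq⟩
    have hP1 : ∀ r ∈ S.PA g, P r 1 = 0 := fun r hr => by
      have := hPadd r 1 (one_mem _) 1 (one_mem _)
      rw [mul_one] at this
      exact add_eq_left.1 this.symm
    have hsp1 : ∀ r ∈ S.PA g, P (cj z g) r = 0 → ∀ e, pfm (M (r * sp e)) = pfm (M r) + e := by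
      intro r hr hPr e
      rcases zmod_cases e with rfl | rfl
      · simp only [sp, zp_zero, mul_one, add_zero]
      · simp only [sp, zp_one]
        rw [hpf r hr _ hs, hs1, hPsymm, hPr, add_zero]
    -- a commutator of a product
    have hprod : ∀ y₁ y₂ t₁ t₂ : G, y₁ ∈ oc (cj z g) → y₂ ∈ oc (cj z g) → t₁ ∈ S.PA g → t₂ ∈ S.PA g →
        P (cj z g) t₁ = 0 → P (cj z g) t₂ = 0 →
        z * y₁ * z⁻¹ * y₁⁻¹ = t₁ → z * y₂ * z⁻¹ * y₂⁻¹ = t₂ →
        pfm (M t₁) = 1 → pfm (M t₂) = 1 → t₁ * t₂ ≠ 1 → t₁ * t₂ ≠ cj z g →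
        y₁ * t₂ * y₁⁻¹ = t₂ * sp (1 + P t₁ t₂) ∧
          z * (y₁ * y₂) * z⁻¹ * (y₁ * y₂)⁻¹ = t₁ * t₂ * sp (1 + P t₁ t₂) ∧
          pfm (M (t₁ * t₂ * sp (1 + P t₁ t₂))) = 1 := by
      intro y₁ y₂ t₁ t₂ hy₁ hy₂ h₁ h₂ hP₁ hP₂ e₁ e₂ p₁ p₂ hn1 hns
      obtain ⟨e, he⟩ := hexp y₁ hy₁ t₂ h₂
      have hcomm : z * (y₁ * y₂) * z⁻¹ * (y₁ * y₂)⁻¹ = t₁ * t₂ * sp e := by
        rw [show z * (y₁ * y₂) * z⁻¹ * (y₁ * y₂)⁻¹ =
          (z * y₁ * z⁻¹ * y₁⁻¹) * (y₁ * (z * y₂ * z⁻¹ * y₂⁻¹) * y₁⁻¹) by group, e₁, e₂, he, mul_assoc]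
      have hne : t₁ * t₂ * sp e ≠ 1 := by
        rcases zmod_cases e with rfl | rfl
        · simpa only [sp, zp_zero, mul_one] using hn1
        · simp only [sp, zp_one]
          exact fun h => hns ((eq_inv_of_mul_eq_one_left h).trans (sinv O'))
      have h := hrank _ (mul_mem (mul_mem h₁ h₂) (hsp e)) hne (conj_of_comm S hcomm)
      rw [hsp1 _ (mul_mem h₁ h₂) (by rw [hPadd _ _ h₁ _ h₂, hP₁, hP₂, add_zero]) e,
        hpf _ h₁ _ h₂, p₁, p₂] at h
      obtain rfl : e = 1 + P t₁ t₂ :=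
        (by decide : ∀ x e : ZMod 2, 1 + 1 + x + e = 1 → e = 1 + x) _ _ h
      exact ⟨he, hcomm, by
        rw [hsp1 _ (mul_mem h₁ h₂) (by rw [hPadd _ _ h₁ _ h₂, hP₁, hP₂, add_zero]), hpf _ h₁ _ h₂,
          p₁, p₂, h]⟩
    -- distinctness
    have hMs : ∀ {r t : G}, r ∈ S.PA g → t ∈ S.PA g → r * t = t * r := fun {r t} hr ht =>
      hinj _ (mul_mem hr ht) _ (mul_mem ht hr) (funext fun i => funext fun j => by
        rw [hMadd r hr t ht, hMadd t ht r hr, add_comm])
    have hinv : ∀ {r : G}, r ∈ S.PA g → r * r = 1 := fun {r} hr =>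
      hinj _ (mul_mem hr hr) _ (one_mem _) (funext fun i => funext fun j => by
        have h := hMadd 1 (one_mem _) 1 (one_mem _) i j
        rw [mul_one] at h
        rw [hMadd r hr r hr, (add_eq_left.1 h.symm : M 1 i j = 0)]
        exact (by decide : ∀ a : ZMod 2, a + a = 0) _)
    have hbav : ∀ v ∈ ({1, cj z g} : Finset G), a * b ≠ v := by
      intro v hv e
      simp only [Finset.mem_insert, Finset.mem_singleton] at hv
      exact ne_classes (ss O') hbb hb₀X.2.2.1 hb₀X.2.2.2 hv (by rw [← e, ← mul_assoc, hinv haA, one_mul])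
    have hcw : ∀ w ∈ ({a, b, b * a} : Finset G), ∀ v ∈ ({1, cj z g} : Finset G), c ≠ w * v := by
      intro w hw v hv
      simp only [Finset.mem_insert, Finset.mem_singleton] at hw hv
      obtain ⟨-, -, n1, n2, n3, n4, n5, n6⟩ := hc₀X
      rcases hw with rfl | rfl | rfl
      exacts [ne_classes (ss O') hcc n1 n2 hv, ne_classes (ss O') hcc n3 n4 hv,
        ne_classes (ss O') hcc n5 n6 hv]
    have hne : ∀ w ∈ ({a, b} : Finset G), ∀ v ∈ ({1, cj z g} : Finset G), w * c ≠ v := by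
      intro w hw v hv e
      have hwA : w ∈ S.PA g := by
        simp only [Finset.mem_insert, Finset.mem_singleton] at hw
        rcases hw with rfl | rfl <;> assumption
      refine hcw w ?_ v hv (by rw [← e, ← mul_assoc, hinv hwA, one_mul])
      simp only [Finset.mem_insert, Finset.mem_singleton] at hw ⊢
      rcases hw with rfl | rfl <;> simp
    obtain ⟨heab, -, -⟩ := hprod ya yb a b hya hyb haA hbA hPa hPb hta htb hpa hpb
      (hbav 1 (by simp)) (hbav _ (by simp))
    obtain ⟨heac, -, -⟩ := hprod ya yc a c hya hyc haA hcA hPa hPc hta htc hpa hpc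
      (hne a (by simp) 1 (by simp)) (hne a (by simp) _ (by simp))
    obtain ⟨-, htbc, hpt⟩ := hprod yb yc b c hyb hyc hbA hcA hPb hPc htb htc hpb hpc
      (hne b (by simp) 1 (by simp)) (hne b (by simp) _ (by simp))
    set e₂₃ := 1 + P b c
    set t := b * c * sp e₂₃ with htdef
    have htA : t ∈ S.PA g := mul_mem (mul_mem hbA hcA) (hsp _)
    have hPsp : ∀ r ∈ S.PA g, P r (cj z g) = 0 → ∀ e, P r (sp e) = 0 := by
      intro r hr h e
      rcases zmod_cases e with rfl | rfl
      · simp only [sp, zp_zero]; exact hP1 r hr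
      · simpa only [sp, zp_one] using h
    have hPt : P (cj z g) t = 0 := by
      rw [htdef, hPadd _ _ (mul_mem hbA hcA) _ (hsp _), hPadd _ _ hbA _ hcA, hPb, hPc,
        hPsp _ hs hPs, add_zero, add_zero]
    have hat : ∀ v ∈ ({1, cj z g} : Finset G), a * t ≠ v := by
      intro v hv e
      rw [htdef] at e
      simp only [Finset.mem_insert, Finset.mem_singleton] at hv
      have hs2 := ss O'
      have key : ∀ p, a * (b * c * sp e₂₃) = p → c = b * a * (p * sp e₂₃) := by
        intro p hp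
        have hspsp : sp e₂₃ * sp e₂₃ = 1 := hinv (hsp _)
        rw [← hp]
        calc c = (b * (a * a) * b) * (c * (sp e₂₃ * sp e₂₃)) := by
              rw [hinv haA, mul_one, hinv hbA, hspsp, one_mul, mul_one]
          _ = _ := by simp only [mul_assoc]
      have hc' := key v e
      have hv' : ∀ e', v * sp e' ∈ ({1, cj z g} : Finset G) := by
        intro e'
        simp only [Finset.mem_insert, Finset.mem_singleton]
        rcases hv with rfl | rfl <;> rcases zmod_cases e' with rfl | rfl <;>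
          simp only [sp, zp_zero, zp_one, mul_one, one_mul, hs2, true_or, or_true]
      exact hcw (b * a) (by simp) _ (hv' e₂₃) hc'
    obtain ⟨heat, -, -⟩ := hprod ya (yb * yc) a t hya (mul_mem hyb hyc) haA htA hPa hPt hta htbc hpa
      hpt (hat 1 (by simp)) (hat _ (by simp))
    -- the two evaluations
    have hspc : ∀ e, ya * sp e * ya⁻¹ = sp e := fun e => by
      rcases zmod_cases e with rfl | rfl <;> simp only [sp, zp_zero, zp_one]
      · group
      · rw [(sset O').comm_z hya |>.eq, mul_inv_cancel_right]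
    have hconj : ya * t * ya⁻¹ = t * sp ((1 + P a b) + (1 + P a c)) := by
      rw [htdef, show ya * (b * c * sp e₂₃) * ya⁻¹ =
        (ya * b * ya⁻¹) * (ya * c * ya⁻¹) * (ya * sp e₂₃ * ya⁻¹) by group, heab, heac, hspc,
        show sp ((1 + P a b) + (1 + P a c)) = sp (1 + P a b) * sp (1 + P a c) from zp_add (ss O') _ _]
      refine hinj _ (mul_mem (mul_mem (mul_mem hbA (hsp _)) (mul_mem hcA (hsp _))) (hsp _)) _
        (mul_mem (mul_mem (mul_mem hbA hcA) (hsp _)) (mul_mem (hsp _) (hsp _)))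
        (funext fun i => funext fun j => ?_)
      rw [hMadd _ (mul_mem (mul_mem hbA (hsp _)) (mul_mem hcA (hsp _))) _ (hsp _),
        hMadd _ (mul_mem hbA (hsp _)) _ (mul_mem hcA (hsp _)), hMadd _ hbA _ (hsp _),
        hMadd _ hcA _ (hsp _), hMadd _ (mul_mem (mul_mem hbA hcA) (hsp _)) _ (mul_mem (hsp _) (hsp _)),
        hMadd _ (mul_mem hbA hcA) _ (hsp _), hMadd _ hbA _ hcA, hMadd _ (hsp _) _ (hsp _)]
      ring
    have h2 := zp_inj (sne O') (mul_left_cancel (heat.symm.trans hconj))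
    rw [htdef, hPadd _ _ (mul_mem hbA hcA) _ (hsp _), hPadd _ _ hbA _ hcA,
      hPsp _ haA ((hPsymm _ _).trans hPa), add_zero] at h2
    revert h2
    generalize P a b = x
    generalize P a c = y
    revert x y
    decide

/-- The representative with commutator space not totally singular does not occur. -/
theorem not_four (hk : IsR (S.act (cj z g)) 4) : False := by
  classical
  set u := S.act (cj z g)
  obtain ⟨⟨x₁, hx₁, hqx₁⟩, hplane, hlen, hmove⟩ := c4_code
  have h1256 := (uL_code 4 x₁ hx₁).1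
  obtain ⟨hfx, y₁, hy₁⟩ := hk.of_mem (x := dc x₁) (by rw [cd_val h1256]; exact hx₁)
  have hsz : IsConj z (cj z g * z) := sz_conj_of_moved O' hfx (by
    rw [← hy₁]
    exact not_cn_range O' y₁ (by rw [hy₁, q_dc h1256, hqx₁]; rfl))
  have hU0 : ∀ r ∈ S.PA g, ∀ x : V, (cd x).val ∈ uL 4 → qP 4 x = 0 → (S.act r).1 x = x := by
    intro r hr x hx hq
    obtain ⟨-, y, hy⟩ := hk.of_mem hx
    rw [← hy] at hq
    obtain ⟨e, he, he', hpe⟩ := pa_move O' hr (cn_range O' y hq)
    rw [d_one hNR O' he he', S.pr_one, hy] at hpe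
    exact v_eq_of_add hpe.symm
  have hmain : ∀ r ∈ S.PA g, r ≠ 1 → Nat.card {x : V // (S.act r).1 x = x} = 16 ∧
      ∀ x : V, (cd x).val ∈ uL 4 → (S.act r).1 x = x := by
    intro r hr hr1
    have hconj : IsConj z (z * r) := by
      obtain ⟨y, hy, e | e⟩ := pa_range hNR O' hr
      · exact conj_of_comm S e
      · have := conj_of_comm_s O' hsz hy e
        rwa [mul_assoc r, ss O', mul_one] at this
    obtain ⟨m, Om, hmact⟩ := out_of_conj hNR O' hr hr1 hconj
    refine ⟨hmact ▸ card_fix_eq hNR Om, ?_⟩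
    obtain ⟨c, -, Om', k', hk'⟩ := exists_twist Om
    have hk'4 : k' = 4 := by
      have h2 := not_low Om' (hNR.twist c) hk'
      rcases two_cases k' with rfl | rfl | h | h | rfl
      · simp at h2
      · simp at h2
      · exact (not_singular (hNR.twist c) Om' (Or.inl h) hk').elim
      · exact (not_singular (hNR.twist c) Om' (Or.inr h) hk').elim
      · rfl
    subst hk'4
    replace hk' : IsR (c * S.act (cj z m) * c⁻¹) 4 := hk'
    -- a non-singular vector in the commutator space of `r`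
    obtain ⟨hfm, ym, hym⟩ := hk'.of_mem (x := dc x₁) (by rw [cd_val h1256]; exact hx₁)
    set v := c⁻¹.1 ym
    have hrv : c.1 ((S.act r).1 v + v) = dc x₁ := by
      rw [map_add, oG_apply_inv, ← hmact, ← hym, oG_mul_apply, oG_mul_apply]
    set x := (S.act r).1 v + v with hx
    have hqx : qP 4 x = 1 := by rw [← c.2, hrv, q_dc h1256, hqx₁]; rfl
    have hxfix : (S.act r).1 x = x := by
      have h := hfm
      rw [← hrv, oG_mul_apply, oG_mul_apply, oG_inv_apply, hmact] at h
      exact c.1.injective h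
    have hxU : (cd x).val ∈ uL 4 := by
      refine hplane (cd x) ?_ fun w hw hqw => ?_
      · rw [← bz_eq_one, ← q_cd, hqx]
      · have hw256 := (uL_code 4 w hw).1
        have hwfix := hU0 r hr (dc w) (by rw [cd_val hw256]; exact hw) (by rw [q_dc hw256, hqw]; rfl)
        rw [← bz_eq_zero, ← Bp_dc (cd x).isLt hw256, dc_cd, hx, Bp_add_left]
        conv_lhs => arg 1; arg 2; rw [← hwfix]
        rw [polar_g]
        exact (by decide : ∀ a : ZMod 2, a + a = 0) _
    intro w hw
    rcases zmod_cases (qP 4 w) with hq | hq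
    · exact hU0 r hr w hw hq
    · have hwx : (cd (w + x)).val ∈ uL 4 := by
        rw [cd_xor]
        exact (by decide +kernel : ∀ a ∈ uL 4, ∀ b ∈ uL 4, a ^^^ b ∈ uL 4) _ hw _ hxU
      have h0 := hU0 r hr _ hwx (by
        rw [q_add, hq, hqx, Bp_cd, (uL_TI 4 (by decide) _ hw _ hxU)]; rfl)
      rw [map_add, hxfix] at h0
      exact add_right_cancel h0
  let cand : List ℕ := (uL 4).filter fun m => qn (16 ^^^ m) == qn 16
  have hval : ∀ r ∈ S.PA g, (cd ((S.act r).1 (dc 16) + dc 16)).val ∈ cand := by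
    intro r hr
    have hfixU : ∀ x : V, (cd x).val ∈ uL 4 → (S.act r).1 x = x := by
      by_cases hr1 : r = 1
      · exact fun x _ => by rw [hr1, S.act_one, oG_one_apply]
      · exact (hmain r hr hr1).2
    rw [List.mem_filter]
    refine ⟨perp_U_code 4 (by decide) (cd _) fun p hp => ?_, ?_⟩
    · have hp256 := (uL_code 4 p hp).1
      rw [← bz_eq_zero, ← Bp_dc hp256 (cd _).isLt, dc_cd, Bp_add_right]
      conv_lhs => arg 1; arg 1; rw [← hfixU (dc p) (by rw [cd_val hp256]; exact hp)]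
      rw [polar_g]
      exact (by decide : ∀ a : ZMod 2, a + a = 0) _
    · rw [beq_iff_eq]
      refine bz_inj _ _ ?_
      rw [← q_dc (xor_lt (by norm_num) (cd _).isLt), ← q_dc (by norm_num : (16 : ℕ) < 256), dc_xor,
        dc_cd, add_left_comm, v_add_self, add_zero, (S.act r).2]
  have key := Nat.card_le_card_of_injective
    (fun r : ↥(S.PA g) => (⟨_, List.mem_toFinset.2 (hval r.1 r.2)⟩ : ↥cand.toFinset)) (by
    intro r t h
    have e1 : (S.act r.1).1 (dc 16) + dc 16 = (S.act t.1).1 (dc 16) + dc 16 := by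
      rw [← dc_cd ((S.act r.1).1 (dc 16) + dc 16),
        show (cd ((S.act r.1).1 (dc 16) + dc 16)).val = _ from congrArg Subtype.val h, dc_cd]
    have e2 := add_right_cancel e1
    by_contra hne
    set w := t.1⁻¹ * r.1
    have hwA : w ∈ S.PA g := mul_mem (inv_mem t.2) r.2
    have hw1 : w ≠ 1 := fun e => hne (Subtype.ext (inv_mul_eq_one.1 e).symm)
    obtain ⟨h16, hfixU⟩ := hmain w hwA hw1
    have hf : (S.act w).1 (dc 16) = dc 16 := by
      rw [S.act_mul (Commute.inv_left (pa_comm t.2)).eq (pa_comm r.2), S.act_inv (pa_comm t.2),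
        oG_mul_apply, e2, oG_inv_apply]
    have hu16 := card_fix_eq hNR O'
    have key' := Nat.card_le_card_of_injective
      (fun o : Option {x : V // u.1 x = x} => (match o with
        | none => ⟨dc 16, hf⟩
        | some x => ⟨x.1, hfixU x.1 (big_fix_code 4 (by decide) _ ((hk.fix_iff x.1).1 x.2))⟩ :
          {x : V // (S.act w).1 x = x})) (by
      have h16u : u.1 (dc 16) ≠ dc 16 := fun e => hmove (by
        have := (hk.fix_iff _).1 e
        rwa [cd_val (by norm_num)] at this)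
      rintro (_ | a) (_ | b) h'
      · rfl
      · exact absurd b.2 (by rw [← show dc 16 = b.1 from congrArg Subtype.val h']; exact h16u)
      · exact absurd a.2 (by rw [show a.1 = dc 16 from congrArg Subtype.val h']; exact h16u)
      · exact congrArg some (Subtype.ext (congrArg (fun p => (p.1 : V)) h')))
    rw [h16, Finite.card_option, hu16] at key'
    omega)
  have h16 := (card_pa_bounds O').1
  rw [Nat.card_eq_fintype_card (α := ↥cand.toFinset), Fintype.card_coe] at key
  have h8 : cand.length ≤ 8 := hlen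
  have := List.toFinset_card_le cand
  omega

/-- No conjugate of `z` centralises `z` outside `O_2(C(z))`. -/
theorem no_out : False := by
  obtain ⟨r, -, O₂, k, hk⟩ := exists_twist O'
  have hk2 := not_low O₂ (hNR.twist r) hk
  rcases two_cases k with rfl | rfl | h | h | rfl
  · simp at hk2
  · simp at hk2
  · exact not_singular (hNR.twist r) O₂ (Or.inl h) hk
  · exact not_singular (hNR.twist r) O₂ (Or.inr h) hk
  · exact not_four (hNR.twist r) O₂ hk

end CoW

end Cfsg.Agent.CoOneWeak
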