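import Cfsg.Agent.CoOneWeak.Build
import Cfsg.Agent.CoOneWeak.NoHigh
import Cfsg.Agent.Fi24Cent.Isolation
import Cfsg.Agent.Classical.OrthPOmega

/-!
A conjugate of `z` other than `z` lies in `O_2(C(z))`.
-/

set_option autoImplicit false

open Cfsg Cfsg.Agent.ThreeTrans.OrthCohom Cfsg.Agent.Classical.Quad QuadraticMap Cfsg.Agent.LargeExtra
open Cfsg.Agent.CoOneType

namespace Cfsg.Agent.CoOneWeak

theorem omega_simple : IsSimpleGroup ↥(Omega (ZMod 2) (quadFormPlus 4 (ZMod 2))) := by
  have hc := (card_center_omega (Q := qP 4) nondegP4 (by simp)).2 (Or.inr rfl)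
  have hs := isSimpleGroup_pomega (Q := qP 4) nondegP4 (by simp)
  rw [qP_coe] at hc hs
  exact MulEquiv.isSimpleGroup (((QuotientGroup.quotientMulEquivOfEq
    (Subgroup.card_eq_one.1 hc)).trans QuotientGroup.quotientBot).symm)

variable {G : Type*} [Group G] [Finite G]

/-- The generalised Fitting subgroup of the centraliser is its `O_2`. -/
theorem fstar_eq (t : G) (hcon : IsPConstrained 2 (Subgroup.centralizer ({t} : Set G)))
    (e : (Subgroup.centralizer ({t} : Set G)) ⧸ pCore 2 (Subgroup.centralizer ({t} : Set G)) ≃*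
      Omega (ZMod 2) (quadFormPlus 4 (ZMod 2))) :
    generalizedFittingSubgroup (Subgroup.centralizer ({t} : Set G)) =
      pCore 2 (Subgroup.centralizer ({t} : Set G)) := by
  haveI : Fact (Nat.Prime 2) := ⟨Nat.prime_two⟩
  set C := Subgroup.centralizer ({t} : Set G)
  have hC : pPrimeCore 2 ↥C = ⊥ := by
    have := omega_simple
    have hΩ : pPrimeCore 2 ↥(Omega (ZMod 2) (quadFormPlus 4 (ZMod 2))) = ⊥ := by
      refine (Subgroup.Normal.eq_bot_or_eq_top inferInstance).resolve_right fun h => ?_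
      have hc := Core.coprime_card_pPrimeCore (p := 2)
        (G := ↥(Omega (ZMod 2) (quadFormPlus 4 (ZMod 2))))
      rw [h, Subgroup.card_top, omega_facts.2.1] at hc
      norm_num at hc
    have hle : pPrimeCore 2 ↥C ≤ pCore 2 ↥C := by
      have h1 := Core.map_pPrimeCore_le_of_surjective (p := 2)
        (f := e.toMonoidHom.comp (QuotientGroup.mk' (pCore 2 ↥C)))
        (e.surjective.comp (QuotientGroup.mk'_surjective _))
      rw [hΩ, le_bot_iff, Subgroup.map_eq_bot_iff] at h1
      intro x hx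
      have h2 := h1 hx
      rw [MonoidHom.mem_ker, MonoidHom.comp_apply, MulEquiv.coe_toMonoidHom,
        MulEquiv.map_eq_one_iff] at h2
      exact (QuotientGroup.eq_one_iff x).1 h2
    refine le_bot_iff.1 ?_
    rw [← Layer.inf_eq_bot_of_isPGroup (Core.pCore_isPGroup (p := 2) (G := ↥C))
      (Core.coprime_card_pPrimeCore (p := 2) (G := ↥C))]
    exact le_inf hle le_rfl
  rw [Layer.generalizedFitting_eq_pCore_iff]
  exact Layer.pCoreSelfCentral_congr
    ((QuotientGroup.quotientMulEquivOfEq hC).trans QuotientGroup.quotientBot)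
    (Layer.isPConstrained_iff_selfCentral.1 hcon)

/-- A conjugate of `t` other than `t` lies in `O_2(C(t))`. -/
theorem exists_conj_in_core (hO : oddCore G = ⊥) (hZ : Subgroup.center G = ⊥) (t : G) (ht : orderOf t = 2)
    (hcon : IsPConstrained 2 (Subgroup.centralizer ({t} : Set G)))
    (hQ : IsExtraspecial 2 (pCore 2 (Subgroup.centralizer ({t} : Set G))))
    (hcard : Nat.card (pCore 2 (Subgroup.centralizer ({t} : Set G))) = 2 ^ 9)
    (e : (Subgroup.centralizer ({t} : Set G)) ⧸ pCore 2 (Subgroup.centralizer ({t} : Set G)) ≃*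
      Omega (ZMod 2) (quadFormPlus 4 (ZMod 2))) :
    ∃ g : G, (∃ hq : g * t * g⁻¹ ∈ Subgroup.centralizer ({t} : Set G),
      (⟨g * t * g⁻¹, hq⟩ : Subgroup.centralizer ({t} : Set G)) ∈
        pCore 2 (Subgroup.centralizer ({t} : Set G))) ∧ g * t * g⁻¹ ≠ t := by
  by_contra hw
  obtain ⟨S, hS⟩ := exists_cow t ht _ (fstar_eq t hcon e) hQ hcard e hw
  have hiso : IsIsolatedInvolution t := by
    refine ⟨ht, fun g hg => ?_⟩
    by_contra hne
    exact CoW.no_out (S := S) (g := g) (CoW.nr_of_surj S hS)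
      ⟨hg.symm.eq, fun hm => hne (S.weak g hm)⟩
  have h := Fi24Cent.centralizer_sup_oddCore hiso
  rw [hO, sup_bot_eq] at h
  have htZ : t ∈ Subgroup.center G := Subgroup.mem_center_iff.2 fun g =>
    Subgroup.mem_centralizer_singleton_iff.1 (h ▸ Subgroup.mem_top g)
  rw [hZ, Subgroup.mem_bot] at htZ
  rw [htZ, orderOf_one] at ht
  omega

end Cfsg.Agent.CoOneWeak
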