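import Cfsg.Agent.CoOneWeak.TablesLow

/-!
A further finite check for the representatives with commutator space of dimension two.
-/

set_option autoImplicit false
set_option maxRecDepth 100000
set_option maxHeartbeats 0

open Cfsg.Agent.CoOneType

namespace Cfsg.Agent.CoOneWeak

theorem two_q_code : ∀ k : Fin 5, k.val < 2 → ∀ c ∈ cs k, ∀ d : Fin 256, inK k c d.val = true →
    (∀ p ∈ kb k c, Bn p d.val = false) → d.val ∉ uL k → ∀ u ∈ uL k, inK k c u = true := by
  decide +kernel

theorem uL_low : ∀ k : Fin 5, k.val < 2 → ∀ x ∈ uL k, fxb k x = true ∧ x < 256 := by decide +kernel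

theorem nv_code : ∀ k : Fin 5, k.val < 2 → ∀ c ∈ cs k, ∀ p : Fin 256, inK k c p.val = true →
    Bn p.val (if k = 0 then c else 34) = false ∧ (if k = 0 then c else 34) < 256 := by decide +kernel

end Cfsg.Agent.CoOneWeak
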