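import Cfsg.Agent.CoOneWeak.NoRange
import Cfsg.Agent.CoOneWeak.TablesTwo

/-!
The commutator space of a conjugate has dimension four.
-/

set_option autoImplicit false
set_option maxRecDepth 100000

open Cfsg Cfsg.Agent.ThreeTrans.OrthCohom Cfsg.Agent.Classical.Quad QuadraticMap Cfsg.Agent.LargeExtra
open Cfsg.Agent.CoOneType

namespace Cfsg.Agent.CoOneWeak

namespace CoW

variable {G : Type*} [Group G] [Finite G] {z : G} {S : CoW z} {g : G}

/-- No common elements when the commutator space has dimension four. -/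
theorem d_one_of_big {k : Fin 5} (hNR : S.NR) (O' : S.Out g) (hk : IsR (S.act (cj z g)) k) (hk2 : 2 ≤ k.val) {d : G}
    (hd : d ∈ oc z) (hd' : d ∈ oc (cj z g)) : d = 1 := by
  refine d_zero O' hd hd' ?_
  have hfix := (hk.fix_iff _).1 (cn_fix O' (d_cn O' hd hd'))
  obtain ⟨-, y, hy⟩ := hk.of_mem (big_fix_code k hk2 _ hfix)
  exact hNR O' hd hd' hy

variable (O' : S.Out g)
include O'

/-- The functional on the fixed space. -/
theorem exists_code {k : Fin 5} (hk2 : k.val < 2) (hk : IsR (S.act (cj z g)) k) :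
    ∃ c ∈ cs k, ∀ x : V, S.Cn g x ↔ inK k c (cd x).val = true := by
  classical
  set u := S.act (cj z g)
  let P : V → V := fun x => dc (prj k (cd x).val)
  have hPcd : ∀ x, (cd (P x)).val = prj k (cd x).val := fun x => cd_val (prj_code k hk2 (cd x)).1
  have hPadd : ∀ x y, P (x + y) = P x + P y := fun x y => by
    show dc _ = dc _ + dc _
    rw [cd_xor, prj_xor, dc_xor]
  have hPfix : ∀ x, u.1 (P x) = P x := fun x => (hk.fix_iff _).2 (by
    rw [hPcd]; exact (prj_code k hk2 (cd x)).2.1)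
  have hPid : ∀ x, u.1 x = x → P x = x := fun x hx => by
    show dc _ = x
    rw [(prj_code k hk2 (cd x)).2.2 ((hk.fix_iff x).1 hx), dc_cd]
  let f : V → ZMod 2 := fun x => if S.Cn g (P x) then 0 else 1
  have hf : ∀ x y, f (x + y) = f x + f y := by
    intro x y
    simp only [f, hPadd]
    by_cases hx : S.Cn g (P x) <;> by_cases hy : S.Cn g (P y)
    · rw [if_pos hx, if_pos hy, if_pos (cn_add O' hx hy), add_zero]
    · rw [if_pos hx, if_neg hy, if_neg fun h => hy ?_, zero_add]
      have := cn_add O' hx h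
      rwa [← add_assoc, v_add_self, zero_add] at this
    · rw [if_neg hx, if_pos hy, if_neg fun h => hx ?_, add_zero]
      have := cn_add O' h hy
      rwa [add_cancel_pair] at this
    · rw [if_neg hx, if_neg hy, if_pos (cn_two O' (hPfix x) (hPfix y) hx hy)]
      decide
  obtain ⟨c', hc'⟩ := exists_rep f hf
  have hqU : ∀ x ∈ uL k, Bn x (cd c').val = qn x := by
    intro x hx
    have hx256 := (uL_code k x hx).1
    obtain ⟨hfx, y, hy⟩ := hk.of_mem (x := dc x) (by rw [cd_val hx256]; exact hx)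
    refine bz_inj _ _ ?_
    rw [← q_dc hx256, ← Bp_dc hx256 (cd c').isLt, dc_cd, ← hc']
    simp only [f, hPid _ hfx]
    rw [← hy]
    rcases zmod_cases (qP 4 (u.1 y + y)) with e | e
    · rw [if_pos (cn_range O' y e), e]
    · rw [if_neg (not_cn_range O' y e), e]
  obtain ⟨c₀, hc₀, hagree⟩ := cs_code k hk2 (cd c') hqU
  have hc256 := (vs_code k hk2 c₀ hc₀).1
  refine ⟨c₀, hc₀, fun x => ?_⟩
  rw [inK, Bool.and_eq_true, ← (fxb_code k hk2 (cd x)).1, beq_iff_eq, ← hk.fix_iff, Bool.not_eq_true']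
  have hB : u.1 x = x → (Bn (cd x).val c₀ = false ↔ S.Cn g x) := by
    intro hx
    have hfb : ∀ a ∈ fb k, a < 256 := (by decide : ∀ k : Fin 5, ∀ a ∈ fb k, a < 256) k
    have hs := mem_sums (P := fun p => p < 256 ∧ Bp (dc p) c' = Bp (dc p) (dc c₀))
      ⟨by norm_num, by rw [dc_zero, Bp_zero_left, Bp_zero_left]⟩
      (fun a b ha hb => ⟨xor_lt ha.1 hb.1, by rw [dc_xor, Bp_add_left, Bp_add_left, ha.2, hb.2]⟩)
      (fb k) (fun a ha => ⟨hfb a ha, by
        rw [← dc_cd c', Bp_dc (hfb a ha) (cd c').isLt, Bp_dc (hfb a ha) hc256, hagree a ha]⟩)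
      (cd x).val (fb_code k hk2 (cd x) ((hk.fix_iff x).1 hx))
    rw [dc_cd, ← hc'] at hs
    rw [← bz_eq_zero, ← Bp_dc (cd x).isLt hc256, dc_cd, ← hs.2]
    simp only [f, hPid x hx]
    split_ifs with h <;> simp [h]
  exact ⟨fun h => ⟨cn_fix O' h, (hB (cn_fix O' h)).2 h⟩, fun h => (hB h.1).1 h.2⟩

/-- The commutator space has dimension four. -/
theorem not_low {k : Fin 5} (hNR : S.NR) (hk : IsR (S.act (cj z g)) k) : 2 ≤ k.val := by
  classical
  by_contra hlt
  have hk2 : k.val < 2 := by omega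
  obtain ⟨c, hc, hcn⟩ := exists_code O' hk2 hk
  set u := S.act (cj z g)
  have hkb : ∀ p ∈ kb k c, p < 256 ∧ S.Cn g (dc p) := fun p hp => by
    obtain ⟨h1, h2⟩ := kb_code k hk2 c hc p hp
    exact ⟨h1, (hcn _).2 (by rwa [cd_val h1])⟩
  by_cases hD : ∀ e ∈ oc z, e ∈ oc (cj z g) → e = 1
  · -- counting the possible actions
    have hK : ∀ r ∈ S.PA g, KFix (S.act r) k c := by
      intro r hr p hp
      obtain ⟨e, he, he', hpe⟩ := pa_move O' hr ((hcn p).2 hp)
      rw [hD e he he', S.pr_one] at hpe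
      exact v_eq_of_add hpe.symm
    have h16 := (card_pa_bounds O').1
    rcases (cands_code k hk2 c hc).1 with h8 | ⟨h24, hnv⟩
    · have key := Nat.card_le_card_of_injective
        (fun r : ↥(S.PA g) => (⟨tup (S.act r.1) k c, List.mem_toFinset.2 (tup_mem hk2 hc (hK _ r.2))⟩ :
          ↥(cands k c).toFinset))
        fun r t h => Subtype.ext (act_inj O' hD r.2 t.2
          (tup_inj hk2 hc (hK _ r.2) (hK _ t.2) (congrArg Subtype.val h)))
      rw [Nat.card_eq_fintype_card (α := ↥(cands k c).toFinset), Fintype.card_coe] at key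
      have := List.toFinset_card_le (cands k c)
      omega
    · set nv := if k = 0 then c else 34 with hnvdef
      have hnvK : ∀ p : V, inK k c (cd p).val = true → Bp p (dc nv) = 0 ∧ nv < 256 := fun p hp => by
        obtain ⟨h1, h2⟩ := nv_code k hk2 c hc (cd p) hp
        exact ⟨by rw [← dc_cd p, Bp_dc (cd p).isLt h2, h1]; rfl, h2⟩
      have hz0 : inK k c (cd (0 : V)).val = true := (hcn 0).1 (cn_zero O')
      have hnv256 := (hnvK 0 hz0).2
      have hq : qP 4 (dc nv) = 1 := by rw [q_dc hnv256, hnv]; rfl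
      have hq0 : qP 4 (dc nv) ≠ 0 := by rw [hq]; exact one_ne_zero
      have hK' : ∀ r ∈ S.PA g, KFix (S.act r * rO hq0) k c := fun r hr p hp => by
        rw [oG_mul_apply, refl_apply hq, (hnvK p hp).1, zero_smul, add_zero]
        exact hK r hr p hp
      have hsgn : ∀ r ∈ S.PA g, ∀ t ∈ S.PA g, S.act r ≠ S.act t * rO hq0 := by
        intro r hr t ht e
        have h := congrArg dsign e
        rw [dsign_mul_rO nondegP4, S.act_even r (pa_comm hr), S.act_even t (pa_comm ht)] at h
        exact absurd h (by decide)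
      let f : ↥(S.PA g) × Bool → ↥(cands k c).toFinset := fun p =>
        if p.2 then ⟨tup (S.act p.1.1 * rO hq0) k c,
          List.mem_toFinset.2 (tup_mem hk2 hc (hK' _ p.1.2))⟩
        else ⟨tup (S.act p.1.1) k c, List.mem_toFinset.2 (tup_mem hk2 hc (hK _ p.1.2))⟩
      have key := Nat.card_le_card_of_injective f (by
        rintro ⟨r, b⟩ ⟨t, b'⟩ h
        cases b <;> cases b' <;> simp only [f, Bool.false_eq_true, if_false, if_true] at h <;>
          have h' := congrArg Subtype.val h <;> dsimp only at h'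
        · rw [Subtype.ext (act_inj O' hD r.2 t.2 (tup_inj hk2 hc (hK _ r.2) (hK _ t.2) h'))]
        · exact absurd (tup_inj hk2 hc (hK _ r.2) (hK' _ t.2) h') (hsgn _ r.2 _ t.2)
        · exact absurd (tup_inj hk2 hc (hK' _ r.2) (hK _ t.2) h').symm (hsgn _ t.2 _ r.2)
        · rw [Subtype.ext (act_inj O' hD r.2 t.2
            (mul_right_cancel (tup_inj hk2 hc (hK' _ r.2) (hK' _ t.2) h')))])
      rw [Nat.card_prod, Nat.card_eq_fintype_card (α := Bool), Fintype.card_bool,
        Nat.card_eq_fintype_card (α := ↥(cands k c).toFinset), Fintype.card_coe] at key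
      have := List.toFinset_card_le (cands k c)
      omega
  -- the common part is not trivial
  push Not at hD
  obtain ⟨d, hd, hd', hd1⟩ := hD
  have hpd0 : S.pr d ≠ 0 := fun e => hd1 (d_zero O' hd hd' e)
  have hnU : ∀ e ∈ oc z, e ∈ oc (cj z g) → (cd (S.pr e)).val ∈ uL k → S.pr e = 0 := fun e he he' hm => by
    obtain ⟨-, y, hy⟩ := hk.of_mem hm
    exact hNR O' he he' hy
  have hperp : ∀ e ∈ oc z, e ∈ oc (cj z g) → ∀ p : V, inK k c (cd p).val = true → Bp p (S.pr e) = 0 :=
    fun e he he' p hp => d_perp O' he he' ((hcn p).2 hp)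
  set δ := (cd (S.pr d)).val with hδ
  have hδK : inK k c δ = true := (hcn _).1 (d_cn O' hd hd')
  have hδperp : ∀ p ∈ kb k c, Bn p δ = false := fun p hp => by
    rw [← bz_eq_zero, ← Bp_dc (hkb p hp).1 (cd _).isLt, dc_cd]
    exact d_perp O' hd hd' (hkb p hp).2
  have hδU : δ ∉ uL k := fun hm => hpd0 (hnU d hd hd' hm)
  obtain ⟨hM, x₀, hx₀, hx₀u⟩ := two_code k hk2 c hc (cd (S.pr d)) hδK hδperp hδU
  have hUK := two_q_code k hk2 c hc (cd (S.pr d)) hδK hδperp hδU
  have hDD : ∀ e ∈ oc z, e ∈ oc (cj z g) → S.pr e = 0 ∨ S.pr e = S.pr d := by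
    intro e he he'
    rcases hM _ (mem_mL hk2 hc (hperp e he he')) with h | h
    · exact Or.inl (hnU e he he' h)
    · refine Or.inr (v_eq_of_add ?_)
      rw [← S.pr_mul e he d hd]
      refine hnU _ (mul_mem he hd) (mul_mem he' hd') ?_
      rwa [S.pr_mul e he d hd, cd_xor]
  have hfixd : ∀ r ∈ S.PA g, (S.act r).1 (S.pr d) = S.pr d := fun r hr => pa_fix_d O' hr hd hd'
  have hfixU : ∀ r ∈ S.PA g, ∀ m : V, (cd m).val ∈ uL k → (S.act r).1 m = m := by
    intro r hr m hm
    obtain ⟨e, he, he', hpe⟩ := pa_move O' hr ((hcn m).2 (hUK _ hm))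
    rcases hDD e he he' with h | h
    · exact v_eq_of_add (hpe.symm.trans h)
    · exfalso
      obtain ⟨-, y, hy⟩ := hk.of_mem hm
      exact hpd0 (hNR O' hd hd' (y := (S.act r).1 y + y) (by
        rw [← h, hpe, map_add, ← pa_u O' hr, ← hy, map_add]
        abel))
  have hfixM : ∀ r ∈ S.PA g, ∀ m : V, (cd m).val ∈ mL k c → (S.act r).1 m = m := by
    intro r hr m hm
    rcases hM _ hm with h | h
    · exact hfixU r hr m h
    · have := hfixU r hr (m + S.pr d) (by rwa [cd_xor])
      rw [map_add, hfixd r hr] at this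
      exact add_right_cancel this
  have hN : ∀ r ∈ S.PA g, ∀ x : V, Bp x (S.pr d) = 0 →
      (cd ((S.act r).1 x + x)).val ∈ mL k c := by
    intro r hr x hx
    refine mem_mL hk2 hc fun p hp => ?_
    have hri := inv_mem hr
    obtain ⟨e, he, he', hpe⟩ := pa_move O' hri ((hcn p).2 hp)
    have h1 : Bp p ((S.act r).1 x) = Bp ((S.act r⁻¹).1 p) x := by
      conv_lhs => arg 1; rw [← oG_apply_inv (S.act r) p, ← S.act_inv (pa_comm hr)]
      exact polar_g _ _ _
    have h2 : (S.act r⁻¹).1 p = p + S.pr e := by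
      rw [hpe, add_comm ((S.act r⁻¹).1 p), ← add_assoc, v_add_self, zero_add]
    rw [Bp_add_right, h1, h2, Bp_add_left]
    rcases hDD e he he' with h | h <;> rw [h]
    · rw [Bp_zero_left, add_zero]; exact (by decide : ∀ a : ZMod 2, a + a = 0) _
    · rw [Bp_comm (S.pr d), hx, add_zero]; exact (by decide : ∀ a : ZMod 2, a + a = 0) _
  have hab : ∀ r ∈ S.PA g, ∀ t ∈ S.PA g, r * t = t * r := by
    intro r hr t ht
    rcases pa_comm_cases O' hr.1 ht.1 with e | e
    · exact commutatorElement_eq_one_iff_mul_comm.1 e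
    exfalso
    have hxx : ∀ x : V, Bp x (S.pr d) = 0 →
        (S.act r).1 ((S.act t).1 x) = (S.act t).1 ((S.act r).1 x) := by
      intro x hx
      have e1 := hfixM r hr _ (hN t ht x hx)
      have e2 := hfixM t ht _ (hN r hr x hx)
      rw [map_add] at e1 e2
      calc (S.act r).1 ((S.act t).1 x)
          = ((S.act r).1 ((S.act t).1 x) + (S.act r).1 x) + (S.act r).1 x := (add_cancel_pair _ _).symm
        _ = ((S.act t).1 x + x) + (S.act r).1 x := by rw [e1]
        _ = ((S.act r).1 x + x) + (S.act t).1 x := by abel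
        _ = ((S.act t).1 ((S.act r).1 x) + (S.act t).1 x) + (S.act t).1 x := by rw [e2]
        _ = (S.act t).1 ((S.act r).1 x) := add_cancel_pair _ _
    have hu : ∀ x : V, Bp x (S.pr d) = 0 → u.1 x = x := by
      intro x hx
      have hs : cj z g * (t * r) = r * t := by rw [← e]; group
      have hrt := mul_mem ht hr
      set x₁ := (S.act (t * r))⁻¹.1 x
      have hx₁ : Bp x₁ (S.pr d) = 0 := by
        conv_lhs => arg 2; rw [← oG_inv_apply (S.act (t * r)) (S.pr d), hfixd _ hrt]
        rw [polar_g, hx]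
      have h1 := congrArg (fun o : O => o.1 x₁) (congrArg S.act hs)
      simp only [S.act_mul O'.comm (pa_comm hrt), oG_mul_apply,
        S.act_mul (pa_comm hr) (pa_comm ht)] at h1
      rw [hxx x₁ hx₁, ← oG_mul_apply, ← oG_mul_apply, ← oG_mul_apply,
        ← S.act_mul (pa_comm ht) (pa_comm hr), oG_mul_apply, oG_apply_inv] at h1
      rwa [oG_mul_apply, oG_apply_inv] at h1
    refine hx₀u ?_
    have := hu (dc x₀.val) (by rw [← dc_cd (S.pr d), Bp_dc x₀.isLt (cd _).isLt, hx₀]; rfl)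
    rw [hk.fix_iff, cd_val x₀.isLt] at this
    exact this
  -- the other side is not commutative
  obtain ⟨r₀, -, O₀, k', hk'⟩ := exists_twist (swap O')
  have O₁ := out_twist S r₀ O'
  have hk'2 : k'.val < 2 := by
    by_contra hbig
    have h2 : 2 ≤ k'.val := by omega
    have hq : g⁻¹ * d * g ∈ oc z := pull O' hd'
    have hq' : g⁻¹ * d * g ∈ oc (cj z g⁻¹) := by
      have h := conj_mem_oc (g := g⁻¹) hd
      rwa [inv_inv] at h ⊢
    have e := d_one_of_big (hNR.twist r₀) O₀ hk' h2 hq hq'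
    exact hd1 (by
      calc d = g * (g⁻¹ * d * g) * g⁻¹ := by group
        _ = 1 := by rw [e]; group)
  obtain ⟨c', hc', hcn'⟩ := exists_code O₀ hk'2 hk'
  obtain ⟨a, ha, b, hb, hab'⟩ := noncomm_code k' hk'2 c' hc'
  obtain ⟨ha256, haK⟩ := kb_code k' hk'2 c' hc' a ha
  obtain ⟨hb256, hbK⟩ := kb_code k' hk'2 c' hc' b hb
  obtain ⟨p, hp, hpa, hpc⟩ := (hcn' (dc a)).2 (by rwa [cd_val ha256])
  obtain ⟨q, hq, hqb, hqc⟩ := (hcn' (dc b)).2 (by rwa [cd_val hb256])
  have h1 := hab _ (pa_push O' hp hpc) _ (pa_push O' hq hqc)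
  have h2 : p * q = q * p := by
    calc p * q = g⁻¹ * (g * p * g⁻¹ * (g * q * g⁻¹)) * g := by group
      _ = q * p := by rw [h1]; group
  rw [(S.twist r₀).commute_iff hp hq, hpa, hqb, Bp_dc ha256 hb256, hab'] at h2
  exact one_ne_zero h2

end CoW

end Cfsg.Agent.CoOneWeak
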