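import Cfsg.Agent.CoOneWeak.Tables
import Cfsg.Agent.CoOneWeak.TablesDefs

/-!
Finite checks for the Pfaffian and for the reduction of linear maps.
-/

set_option autoImplicit false
set_option maxRecDepth 100000
set_option maxHeartbeats 0
set_option Elab.async false

open Cfsg.Agent.CoOneType

namespace Cfsg.Agent.CoOneWeak

/-- The commutator space meets every complement. -/
def vs4 : Fin 5 → List ℕ
  | 2 => [16, 32, 64, 128]
  | _ => [8, 16, 32, 64]

theorem vs4_code : ∀ k : Fin 5, 2 ≤ k.val → (∀ v ∈ vs4 k, v < 256 ∧ v ∉ uL k) ∧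
    ∀ x : Fin 256, ∃ p ∈ sums (vs4 k), x.val ^^^ p ∈ uL k := by decide +kernel

theorem perp_U_code : ∀ k : Fin 5, 2 ≤ k.val → ∀ y : Fin 256,
    (∀ p ∈ uL k, Bn p y.val = false) → y.val ∈ uL k := by decide +kernel

/-- The Pfaffian of six entries. -/
def pf6 (a01 a02 a03 a12 a13 a23 : Bool) : Bool :=
  (a01 && a23) != ((a02 && a13) != (a03 && a12))

theorem pf_code : ∀ a01 a02 a03 a12 a13 a23 : Bool, pf6 a01 a02 a03 a12 a13 a23 = false →
    ∃ c0 c1 c2 c3 : Bool, (c0 || c1 || c2 || c3) = true ∧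
      ((c1 && a01) != ((c2 && a02) != (c3 && a03))) = false ∧
      ((c0 && a01) != ((c2 && a12) != (c3 && a13))) = false ∧
      ((c0 && a02) != ((c1 && a12) != (c3 && a23))) = false ∧
      ((c0 && a03) != ((c1 && a13) != (c2 && a23))) = false := by decide +kernel

/-- The linear part of a map from the fixed space to the commutator space, coded by four images. -/
def jap (J x : ℕ) : ℕ :=
  (if x.testBit 2 then J &&& 3 else 0) ^^^ (if x.testBit 3 then (J >>> 2) &&& 3 else 0) ^^^
  ((if x.testBit 6 then (J >>> 4) &&& 3 else 0) ^^^ (if x.testBit 7 then (J >>> 6) &&& 3 else 0))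

/-- The code of four images. -/
def jcode (f : ℕ → ℕ) : ℕ :=
  (f 4 &&& 3) ^^^ ((f 8 &&& 3) <<< 2) ^^^ (((f 64 &&& 3) <<< 4) ^^^ ((f 128 &&& 3) <<< 6))

/-- The effect of conjugation by a word on a code. -/
def jact (w : List (ℕ × ℕ)) (J : ℕ) : ℕ := jcode fun b => wn w (jap J (wn (winv w) b))

/-- The words of the reduction. -/
def redW : List (List (ℕ × ℕ)) :=
  [[(34, 35), (17, 21), (145, 149)], [(17, 21), (145, 149)], [(17, 19), (17, 21), (25, 29)],
    [(34, 35), (17, 81), (145, 209)], [(34, 35)], [(34, 35), (68, 76)]]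

/-- The words of the spanning set. -/
def spanW : List (List (ℕ × ℕ)) :=
  [[], [(17, 19)], [(68, 136)], [(17, 21), (25, 29)], [(17, 21), (145, 149)]]

/-- The reduction. -/
def red (J : ℕ) : ℕ :=
  redW.foldl (fun J w => if jact w J = J then J else J ^^^ jact w J) J

theorem red_code : ∀ J : Fin 256, J.val ≠ 0 → red J.val = 81 := by decide +kernel

theorem word_code : ∀ w ∈ redW ++ spanW, (∀ p ∈ w, p.1 < 256 ∧ p.2 < 256 ∧ qn p.1 = true ∧ qn p.2 = true) ∧
    ∀ v : Fin 256, wn w (rn 0 v.val) = rn 0 (wn w v.val) := by decide +kernel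

theorem winv_code : ∀ w ∈ redW ++ spanW, ∀ b ∈ [4, 8, 64, 128],
    wn w (wn (winv w) b) = b ∧ wn (winv w) b < 256 ∧ fxb 0 (wn (winv w) b) = true := by decide +kernel

/-- The sums of the spanning codes. -/
def spanJ : Fin 32 → ℕ := fun i =>
  ((if i.val.testBit 0 then jact [] 81 else 0) ^^^ (if i.val.testBit 1 then jact [(17, 19)] 81 else 0)) ^^^
  ((if i.val.testBit 2 then jact [(68, 136)] 81 else 0) ^^^
    ((if i.val.testBit 3 then jact [(17, 21), (25, 29)] 81 else 0) ^^^
      (if i.val.testBit 4 then jact [(17, 21), (145, 149)] 81 else 0)))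

theorem span_code : ∀ i j : Fin 32, spanJ i = spanJ j → i = j := by decide +kernel

theorem fix0_code : ∀ x : Fin 256, rn 0 x.val = x.val →
    x.val = (x.val &&& 3) ^^^ ((if x.val.testBit 2 then 4 else 0) ^^^ (if x.val.testBit 3 then 8 else 0) ^^^
      ((if x.val.testBit 6 then 64 else 0) ^^^ (if x.val.testBit 7 then 128 else 0))) ∧
    x.val &&& 3 ∈ uL 0 := by decide +kernel

end Cfsg.Agent.CoOneWeak
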