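import Cfsg.Agent.CoOneWeak.Tuple
import Cfsg.Agent.CoOneWeak.TablesHigh

/-!
No common element of the two extraspecial groups lies over the commutator space.
-/

set_option autoImplicit false
set_option maxRecDepth 100000

open Cfsg Cfsg.Agent.ThreeTrans.OrthCohom Cfsg.Agent.Classical.Quad QuadraticMap Cfsg.Agent.LargeExtra
open Cfsg.Agent.CoOneType

namespace Cfsg.Agent.CoOneWeak

theorem and_three : ∀ a : Fin 256, a.val ∈ uL 0 → a.val &&& 3 = a.val := by decide +kernel

theorem jcode_xor (f f' : ℕ → ℕ) : jcode (fun b => f b ^^^ f' b) = jcode f ^^^ jcode f' := by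
  unfold jcode
  simp only [Nat.and_xor_distrib_right, Nat.shiftLeft_xor_distrib]
  ac_rfl

theorem two_cases : ∀ k : Fin 5, k = 0 ∨ k = 1 ∨ k = 2 ∨ k = 3 ∨ k = 4 := by decide

theorem uL0_code : uL 0 = [0, 1, 2, 3] ∧ (3 : ℕ) = 1 ^^^ 2 ∧ (2 : ℕ) = 1 ^^^ 3 ∧ (1 : ℕ) = 2 ^^^ 3 :=
  ⟨rfl, rfl, rfl, rfl⟩

theorem pair_span : ∀ a ∈ uL 0, ∀ b ∈ uL 0, a ≠ 0 → b ≠ 0 → a ≠ b → ∀ c ∈ uL 0,
    c = 0 ∨ c = a ∨ c = b ∨ c = a ^^^ b := by decide +kernel

theorem fxb0_uL : ∀ x ∈ uL 0, fxb 0 x = true := by decide +kernel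

theorem basis_fxb : ∀ b ∈ [4, 8, 64, 128], fxb 0 b = true ∧ b < 256 ∧ (0 : Fin 5).val < 2 ∧ 0 ∈ cs 0 := by
  decide +kernel

theorem inK_zero : ∀ x : Fin 256, inK 0 0 x.val = fxb 0 x.val := by decide +kernel

namespace CoW

variable {G : Type*} [Group G] [Finite G] {z : G} {S : CoW z} {g : G} (O' : S.Out g)
include O'

/-- An isometry commuting with the action lifts to an element centralising the conjugate. -/
theorem exists_lift_of
    (hpf : ∀ w : V, (∀ p : V, (S.act (cj z g)).1 p = p → Bp p w = 0) → ∃ y, (S.act (cj z g)).1 y + y = w)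
    {d : G} (hd : d ∈ oc z)
    (hd' : d ∈ oc (cj z g)) (h0 : S.pr d ≠ 0) {y : V}
    (hy : (S.act (cj z g)).1 y + y = S.pr d) (o : O) (hpre : ∃ c, c * z = z * c ∧ S.act c = o)
    (hcomm : ∀ x, o.1 ((S.act (cj z g)).1 x) = (S.act (cj z g)).1 (o.1 x)) :
    ∃ c, c * z = z * c ∧ c * cj z g = cj z g * c ∧ S.act c = o := by
  obtain ⟨c, hc, rfl⟩ := hpre
  obtain ⟨O₂, hact⟩ := shift O' hc
  have hou : S.act c * S.act (cj z g) = S.act (cj z g) * S.act c :=
    ext_oG fun x => by rw [oG_mul_apply, oG_mul_apply, hcomm]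
  rw [hou, mul_inv_cancel_right] at hact
  set yq := cj z g * cj z (c * g) with hyq
  have hyQ : yq ∈ oc z := S.act_ker _ (Commute.mul_left O'.comm O₂.comm).eq
    (by rw [S.act_mul O'.comm O₂.comm, hact, act_sq O'])
  have hd2 : c * d * c⁻¹ ∈ oc (cj z (c * g)) := by
    have h := conj_mem_oc (g := c) hd'
    rwa [show c * cj z g * c⁻¹ = cj z (c * g) by group] at h
  have hp2 : S.pr (c * d * c⁻¹) = (S.act c).1 (S.pr d) := S.act_spec c hc d hd
  have hperp : ∀ p : V, (S.act (cj z g)).1 p = p → Bp p (S.pr yq) = 0 := by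
    intro x hx
    obtain ⟨q, hq, rfl⟩ := S.pr_surj x
    have h1 := (cn_iff O' hq).1 (all_cn O' hd hd' h0 hy hx)
    have h2 := (cn_iff O₂ hq).1 (all_cn O₂ (S.nrm hc hd) hd2
      (fun e => h0 ((S.act c).1.map_eq_zero_iff.1 (hp2 ▸ e)))
      (y := (S.act c).1 y) (by rw [hact, hp2, ← hy, map_add, hcomm]) (x := S.pr q) (by rw [hact, hx]))
    rw [← S.commute_iff hq hyQ]
    exact Commute.mul_right h1 h2
  obtain ⟨w, hw⟩ := hpf _ hperp
  obtain ⟨p, hp, rfl⟩ := S.pr_surj w
  obtain ⟨ht, hte⟩ := range_lift O' hp rfl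
  have hs2 : cj z (c * g) = cj z g * yq := by rw [hyq, ← mul_assoc, ss O', one_mul]
  have hconj : cj z g * (cj z g * p * (cj z g)⁻¹ * p⁻¹) = p * cj z g * p⁻¹ := by
    calc cj z g * (cj z g * p * (cj z g)⁻¹ * p⁻¹) = (cj z g * cj z g) * (p * (cj z g)⁻¹ * p⁻¹) := by group
      _ = p * cj z g * p⁻¹ := by rw [ss O', one_mul, sinv O']
  have hc2 : c * cj z g * c⁻¹ = cj z (c * g) := by group
  rcases S.pr_eq ht hyQ (hte.trans hw) with e | e
  · rw [hs2, e, hconj] at hc2
    have hpi : p⁻¹ * z = z * p⁻¹ := (Commute.inv_left (S.comm hp)).eq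
    refine ⟨p⁻¹ * c, (Commute.mul_left hpi hc).eq, ?_, ?_⟩
    · calc p⁻¹ * c * cj z g = p⁻¹ * (c * cj z g * c⁻¹) * c := by group
        _ = cj z g * (p⁻¹ * c) := by rw [hc2]; group
    · rw [S.act_mul hpi hc, S.act_inner (inv_mem hp), one_mul]
  · exfalso
    refine not_sz O' hd hd' h0 hy ?_
    have e2 : cj z (c * g) = p * (cj z g * z) * p⁻¹ := by
      rw [hs2, e, ← mul_assoc, hconj]
      calc p * cj z g * p⁻¹ * z = p * cj z g * (p⁻¹ * z) := by group
        _ = p * (cj z g * z) * p⁻¹ := by rw [(Commute.inv_left (S.comm hp)).eq]; group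
    exact isConj_iff.2 ⟨p⁻¹ * (c * g), by
      calc p⁻¹ * (c * g) * z * (p⁻¹ * (c * g))⁻¹ = p⁻¹ * cj z (c * g) * p := by group
        _ = cj z g * z := by rw [e2]; group⟩

theorem exists_lift (hS : S.Surj) {k : Fin 5} (hk : IsR (S.act (cj z g)) k) {d : G} (hd : d ∈ oc z)
    (hd' : d ∈ oc (cj z g)) (h0 : S.pr d ≠ 0) {y : V}
    (hy : (S.act (cj z g)).1 y + y = S.pr d) (o : O) (ho : dsign o = 1)
    (hcomm : ∀ x, o.1 ((S.act (cj z g)).1 x) = (S.act (cj z g)).1 (o.1 x)) :
    ∃ c, c * z = z * c ∧ c * cj z g = cj z g * c ∧ S.act c = o :=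
  exists_lift_of O' (fun _ h => (hk.of_mem (hk.perp_fix h)).2) hd hd' h0 hy o (hS o ho) hcomm

/-- The case of the first representative. -/
theorem no_range_zero (hS : S.Surj) (hk : IsR (S.act (cj z g)) 0) {d : G} (hd : d ∈ oc z) (hd' : d ∈ oc (cj z g))
    (h0 : S.pr d ≠ 0) (hdU : (cd (S.pr d)).val ∈ uL 0) : False := by
  classical
  obtain ⟨-, y, hy⟩ := hk.of_mem hdU
  set u := S.act (cj z g)
  have hall : ∀ x : V, u.1 x = x → S.Cn g x := fun x hx => all_cn O' hd hd' h0 hy hx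
  have hD : ∀ e ∈ oc z, e ∈ oc (cj z g) → (cd (S.pr e)).val ∈ uL 0 := fun e he he' =>
    hk.perp_fix fun p hp => d_perp O' he he' (hall p hp)
  have hd0 : (cd (S.pr d)).val ≠ 0 := fun e => h0 (cd_eq_zero.1 e)
  obtain ⟨w, hw, hne, hne0, hmem⟩ := move0_code _ hdU hd0
  obtain ⟨o, ho, hov, hcomm⟩ := exists_word hk (mov_code 0 w hw)
  obtain ⟨c, hcz, hcs, hca⟩ := exists_lift O' hS hk hd hd' h0 hy o ho hcomm
  have hd2 : c * d * c⁻¹ ∈ oc z := S.nrm hcz hd
  have hd2' : c * d * c⁻¹ ∈ oc (cj z g) := conj_oc O' hcs hd'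
  have hp2 : (cd (S.pr (c * d * c⁻¹))).val = wn w (cd (S.pr d)).val := by
    rw [S.act_spec c hcz d hd, hca]
    conv_lhs => rw [← dc_cd (S.pr d), (hov _ (cd _).isLt).1, cd_val (hov _ (cd _).isLt).2]
  have hUfix : ∀ r ∈ S.PA g, ∀ x : V, (cd x).val ∈ uL 0 → (S.act r).1 x = x := by
    intro r hr x hx
    have f1 := pa_fix_d O' hr hd hd'
    have f2 := pa_fix_d O' hr hd2 hd2'
    rcases pair_span _ hdU _ hmem hd0 hne0 hne.symm _ hx with e | e | e | e
    · rw [cd_eq_zero.1 e, map_zero]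
    · rw [← dc_cd x, e, dc_cd]; exact f1
    · rw [← dc_cd x, e, ← hp2, dc_cd]; exact f2
    · rw [← dc_cd x, e, ← hp2, dc_xor, dc_cd, dc_cd, map_add, f1, f2]
  have hmove : ∀ r ∈ S.PA g, ∀ x : V, u.1 x = x → (cd ((S.act r).1 x + x)).val ∈ uL 0 := by
    intro r hr x hx
    obtain ⟨e, he, he', hpe⟩ := pa_move O' hr (hall x hx)
    rw [← hpe]; exact hD e he he'
  have hfixc : ∀ x : V, u.1 x = x ↔ fxb 0 (cd x).val = true := fun x => by
    rw [hk.fix_iff, ← (fxb_code 0 (by decide) (cd x)).1, beq_iff_eq]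
  let J : G → ℕ := fun r => jcode fun b => (cd ((S.act r).1 (dc b) + dc b)).val
  have hbu : ∀ b ∈ [4, 8, 64, 128], u.1 (dc b) = dc b := fun b hb =>
    (hfixc _).2 (by rw [cd_val (basis_fxb b hb).2.1]; exact (basis_fxb b hb).1)
  have hval : ∀ r ∈ S.PA g, ∀ x : V, u.1 x = x →
      (cd ((S.act r).1 x + x)).val = jap (J r) (cd x).val := by
    intro r hr x hx
    obtain ⟨hsplit, hlow⟩ := fix0_code (cd x) ((hk.fix_iff x).1 hx)
    let F : ℕ → ℕ := fun b => (cd ((S.act r).1 (dc b) + dc b)).val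
    have hFadd : ∀ a b : ℕ, F (a ^^^ b) = F a ^^^ F b := fun a b => by
      show (cd _).val = _
      rw [dc_xor, N_add, cd_xor]
    have hF0 : F 0 = 0 := cd_eq_zero.2 (by rw [dc_zero, map_zero, add_zero])
    have hF3 : F ((cd x).val &&& 3) = 0 := cd_eq_zero.2 (by
      rw [hUfix r hr _ (by rw [cd_val (lt_of_le_of_lt Nat.and_le_left (cd x).isLt)]; exact hlow),
        v_add_self])
    have hFif : ∀ (p : Bool) (b : ℕ), F (if p then b else 0) = if p then F b else 0 := fun p b => by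
      cases p <;> simp [hF0]
    have hFlt : ∀ b ∈ [4, 8, 64, 128], F b &&& 3 = F b := fun b hb =>
      and_three (cd _) (hmove r hr _ (hbu b hb))
    show (cd ((S.act r).1 x + x)).val = jap (jcode F) (cd x).val
    rw [show (cd ((S.act r).1 x + x)).val = F (cd x).val by simp only [F, dc_cd]]
    conv_lhs => rw [hsplit, hFadd, hF3, Nat.zero_xor, hFadd, hFadd, hFadd, hFif, hFif, hFif, hFif]
    have hjap : ∀ a b c e : Fin 4, ∀ v : Fin 256,
        jap ((a.val ^^^ (b.val <<< 2)) ^^^ ((c.val <<< 4) ^^^ (e.val <<< 6))) v.val =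
        (if v.val.testBit 2 then a.val else 0) ^^^ (if v.val.testBit 3 then b.val else 0) ^^^
        ((if v.val.testBit 6 then c.val else 0) ^^^ (if v.val.testBit 7 then e.val else 0)) := by
      intro a b c e v
      have hp : ∀ a b c e : Fin 4,
          ((a.val ^^^ (b.val <<< 2)) ^^^ ((c.val <<< 4) ^^^ (e.val <<< 6))) &&& 3 = a.val ∧
          (((a.val ^^^ (b.val <<< 2)) ^^^ ((c.val <<< 4) ^^^ (e.val <<< 6))) >>> 2) &&& 3 = b.val ∧
          (((a.val ^^^ (b.val <<< 2)) ^^^ ((c.val <<< 4) ^^^ (e.val <<< 6))) >>> 4) &&& 3 = c.val ∧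
          (((a.val ^^^ (b.val <<< 2)) ^^^ ((c.val <<< 4) ^^^ (e.val <<< 6))) >>> 6) &&& 3 = e.val := by
        decide +kernel
      obtain ⟨q1, q2, q3, q4⟩ := hp a b c e
      rw [jap, q1, q2, q3, q4]
    have hlt : ∀ b ∈ [4, 8, 64, 128], F b < 4 := fun b hb => by
      rw [← hFlt b hb]; exact Nat.lt_succ_of_le Nat.and_le_right
    rw [jcode, hFlt 4 (by simp), hFlt 8 (by simp), hFlt 64 (by simp), hFlt 128 (by simp)]
    exact (hjap ⟨_, hlt 4 (by simp)⟩ ⟨_, hlt 8 (by simp)⟩ ⟨_, hlt 64 (by simp)⟩ ⟨_, hlt 128 (by simp)⟩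
      (cd x)).symm
  have hJmul : ∀ r ∈ S.PA g, ∀ t ∈ S.PA g, J (r * t) = J r ^^^ J t := by
    intro r hr t ht
    have e : ∀ b ∈ [4, 8, 64, 128], (cd ((S.act (r * t)).1 (dc b) + dc b)).val =
        (cd ((S.act r).1 (dc b) + dc b)).val ^^^ (cd ((S.act t).1 (dc b) + dc b)).val := by
      intro b hb
      rw [← cd_xor, S.act_mul (pa_comm hr) (pa_comm ht), oG_mul_apply]
      congr 2
      have h1 := hUfix r hr _ (hmove t ht _ (hbu b hb))
      rw [map_add] at h1
      calc (S.act r).1 ((S.act t).1 (dc b)) + dc b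
          = ((S.act r).1 ((S.act t).1 (dc b)) + (S.act r).1 (dc b)) + ((S.act r).1 (dc b) + dc b) := by
            rw [add_assoc, ← add_assoc ((S.act r).1 (dc b)), v_add_self, zero_add]
        _ = _ := by rw [h1, add_comm]
    show jcode _ = jcode _ ^^^ jcode _
    rw [← jcode_xor]
    simp only [jcode, e 4 (by simp), e 8 (by simp), e 64 (by simp), e 128 (by simp)]
  have hJact : ∀ v ∈ redW ++ spanW, ∀ r ∈ S.PA g, ∃ t ∈ S.PA g, J t = jact v (J r) := by
    intro v hv r hr
    obtain ⟨o', ho', hov', hcomm'⟩ := exists_word hk (word_code v hv)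
    obtain ⟨c', hcz', hcs', hca'⟩ := exists_lift O' hS hk hd hd' h0 hy o' ho' hcomm'
    refine ⟨c' * r * c'⁻¹, ⟨conj_oc O' hcs' hr.1, Subgroup.mem_centralizer_singleton_iff.2
      (Commute.mul_left (Commute.mul_left hcz' (pa_comm hr)) (Commute.inv_left hcz')).eq⟩, ?_⟩
    have hca2 : S.act (c' * r * c'⁻¹) = o' * S.act r * o'⁻¹ := by
      rw [S.act_mul (Commute.mul_left hcz' (pa_comm hr)).eq (Commute.inv_left hcz').eq,
        S.act_mul hcz' (pa_comm hr), S.act_inv hcz', hca']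
    have e : ∀ b ∈ [4, 8, 64, 128], (cd ((S.act (c' * r * c'⁻¹)).1 (dc b) + dc b)).val =
        wn v (jap (J r) (wn (winv v) b)) := by
      intro b hb
      obtain ⟨e1, e2, e3⟩ := winv_code v hv b hb
      have e4 : o'⁻¹.1 (dc b) = dc (wn (winv v) b) := o'.1.injective (by
        rw [oG_apply_inv, (hov' _ e2).1, e1])
      have e5 : u.1 (dc (wn (winv v) b)) = dc (wn (winv v) b) := (hfixc _).2 (by rwa [cd_val e2])
      have e6 := hval r hr _ e5
      rw [cd_val e2] at e6
      have e7 : (S.act (c' * r * c'⁻¹)).1 (dc b) + dc b =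
          o'.1 ((S.act r).1 (dc (wn (winv v) b)) + dc (wn (winv v) b)) := by
        rw [hca2, oG_mul_apply, oG_mul_apply, e4, map_add, (hov' _ e2).1, e1]
      rw [e7, ← dc_cd ((S.act r).1 _ + _), e6,
        (hov' _ (e6 ▸ (cd _).isLt)).1, cd_val (hov' _ (e6 ▸ (cd _).isLt)).2]
    show jcode _ = jact v (J r)
    simp only [jact, jcode, e 4 (by simp), e 8 (by simp), e 64 (by simp), e 128 (by simp)]
  obtain ⟨h16, h128⟩ := card_pa_bounds O'
  have := Fintype.ofFinite G
  let T : Finset G := Finset.univ.filter fun e => e ∈ oc z ∧ e ∈ oc (cj z g)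
  have hT : ∀ {e}, e ∈ T ↔ e ∈ oc z ∧ e ∈ oc (cj z g) := fun {e} => by simp [T]
  by_cases hz0 : ∀ r ∈ S.PA g, J r = 0
  · -- everything fixes the fixed space
    have hK : ∀ r ∈ S.PA g, KFix (S.act r) 0 0 := by
      intro r hr p hp
      rw [inK_zero] at hp
      refine v_eq_of_add (cd_eq_zero.1 ?_)
      rw [hval r hr p ((hfixc p).2 hp), hz0 r hr]
      simp [jap]
    obtain ⟨hk2, hc0⟩ := (basis_fxb 4 (by simp)).2.2
    have hcand := ((cands_code 0 hk2 0 hc0).2 rfl)
    let PF : Finset G := Finset.univ.filter fun r => r ∈ S.PA g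
    have hPF : PF.card = Nat.card ↥(S.PA g) := by
      rw [← Fintype.card_coe, ← Nat.card_eq_fintype_card]
      exact Nat.card_congr (Equiv.subtypeEquivRight fun r => by simp [PF])
    obtain ⟨t, -, ht⟩ := Finset.exists_lt_card_fiber_of_mul_lt_card_of_maps_to
      (s := PF) (t := (cands 0 0).toFinset) (f := fun r => tup (S.act r) 0 0) (n := 4)
      (fun r hr => List.mem_toFinset.2 (tup_mem hk2 hc0 (hK r (by simpa [PF] using hr))))
      (lt_of_le_of_lt (Nat.mul_le_mul_right 4 ((List.toFinset_card_le _).trans hcand))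
        (by omega))
    obtain ⟨r₀, hr₀⟩ := Finset.card_pos.1 (lt_of_le_of_lt (Nat.zero_le _) ht)
    simp only [PF, Finset.mem_filter, Finset.mem_univ, true_and] at hr₀
    have hle : (PF.filter fun r => tup (S.act r) 0 0 = t).card ≤ ({0, 1, 2, 3} : Finset ℕ).card := by
      refine Finset.card_le_card_of_injOn (fun r => (cd (S.pr (r₀⁻¹ * r))).val) (fun r hr => ?_)
        fun r hr r' hr' e => ?_
      · simp only [PF, Finset.coe_filter, Finset.mem_filter, Finset.mem_univ, true_and,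
          Set.mem_ofPred_eq] at hr
        have hm := mul_mem (inv_mem hr₀.1) hr.1
        have hone : S.act (r₀⁻¹ * r) = 1 := by
          rw [S.act_mul (Commute.inv_left (pa_comm hr₀.1)).eq (pa_comm hr.1),
            S.act_inv (pa_comm hr₀.1), tup_inj hk2 hc0 (hK _ hr₀.1) (hK _ hr.1)
              (hr₀.2.trans hr.2.symm), inv_mul_cancel]
        have := hD _ (S.act_ker _ (pa_comm hm) hone) hm.1
        simpa [uL] using this
      · simp only [PF, Finset.coe_filter, Finset.mem_filter, Finset.mem_univ, true_and,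
          Set.mem_ofPred_eq] at hr hr'
        have e2 : S.pr (r₀⁻¹ * r) = S.pr (r₀⁻¹ * r') := by
          rw [← dc_cd (S.pr (r₀⁻¹ * r)), show (cd (S.pr (r₀⁻¹ * r))).val = _ from e, dc_cd]
        have hin : ∀ r ∈ S.PA g, tup (S.act r) 0 0 = t → r₀⁻¹ * r ∈ oc z := fun r hr hrt =>
          S.act_ker _ (pa_comm (mul_mem (inv_mem hr₀.1) hr)) (by
            rw [S.act_mul (Commute.inv_left (pa_comm hr₀.1)).eq (pa_comm hr), S.act_inv (pa_comm hr₀.1),
              tup_inj hk2 hc0 (hK _ hr₀.1) (hK _ hr) (hr₀.2.trans hrt.symm), inv_mul_cancel])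
        exact mul_left_cancel (d_inj O' (hin r hr.1 hr.2) (mul_mem (inv_mem hr₀.1) hr.1).1
          (hin r' hr'.1 hr'.2) (mul_mem (inv_mem hr₀.1) hr'.1).1 e2)
    simp at hle
    omega
  · push Not at hz0
    obtain ⟨r, hr, hJr⟩ := hz0
    have hred : ∀ l : List (List (ℕ × ℕ)), (∀ v ∈ l, v ∈ redW ++ spanW) → ∀ r ∈ S.PA g,
        ∃ t ∈ S.PA g, J t = l.foldl (fun J w => if jact w J = J then J else J ^^^ jact w J) (J r) := by
      intro l
      induction l with
      | nil => exact fun _ r hr => ⟨r, hr, rfl⟩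
      | cons v l ih =>
        intro hl r hr
        rw [List.foldl_cons]
        split_ifs with he
        · exact ih (fun w hw => hl w (List.mem_cons_of_mem _ hw)) r hr
        · obtain ⟨t, ht, hJt⟩ := hJact v (hl v List.mem_cons_self) r hr
          rw [← hJt, ← hJmul r hr t ht]
          exact ih (fun w hw => hl w (List.mem_cons_of_mem _ hw)) _ (mul_mem hr ht)
    have hJlt : J r < 256 := by
      show jcode _ < 256
      unfold jcode
      refine Nat.xor_lt_two_pow (n := 8) (Nat.xor_lt_two_pow ?_ ?_) (Nat.xor_lt_two_pow ?_ ?_) <;>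
        simp only [Nat.shiftLeft_eq] <;>
        · have : ∀ a : ℕ, a &&& 3 ≤ 3 := fun a => Nat.and_le_right
          nlinarith [this (cd ((S.act r).1 (dc 4) + dc 4)).val, this (cd ((S.act r).1 (dc 8) + dc 8)).val,
            this (cd ((S.act r).1 (dc 64) + dc 64)).val, this (cd ((S.act r).1 (dc 128) + dc 128)).val]
    obtain ⟨t, ht, hJt⟩ := hred redW (fun v hv => List.mem_append_left _ hv) r hr
    have h81 : J t = 81 := hJt.trans (red_code ⟨_, hJlt⟩ hJr)
    have hone : J 1 = 0 := by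
      show jcode _ = 0
      simp only [S.act_one, oG_one_apply, v_add_self, cd_eq_zero.2 rfl]
      rfl
    have hgen : ∀ i : Fin 32, ∃ a ∈ S.PA g, J a = spanJ i := by
      intro i
      have h5 : ∀ v ∈ spanW, ∀ p : Bool, ∃ a ∈ S.PA g, J a = if p then jact v 81 else 0 := by
        intro v hv p
        cases p
        · exact ⟨1, one_mem _, by simpa using hone⟩
        · obtain ⟨a, ha, hJa⟩ := hJact v (List.mem_append_right _ hv) t ht
          exact ⟨a, ha, by rw [hJa, h81]; rfl⟩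
      obtain ⟨a1, m1, e1⟩ := h5 [] (by simp [spanW]) (i.val.testBit 0)
      obtain ⟨a2, m2, e2⟩ := h5 [(17, 19)] (by simp [spanW]) (i.val.testBit 1)
      obtain ⟨a3, m3, e3⟩ := h5 [(68, 136)] (by simp [spanW]) (i.val.testBit 2)
      obtain ⟨a4, m4, e4⟩ := h5 [(17, 21), (25, 29)] (by simp [spanW]) (i.val.testBit 3)
      obtain ⟨a5, m5, e5⟩ := h5 [(17, 21), (145, 149)] (by simp [spanW]) (i.val.testBit 4)
      refine ⟨(a1 * a2) * (a3 * (a4 * a5)), mul_mem (mul_mem m1 m2) (mul_mem m3 (mul_mem m4 m5)), ?_⟩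
      rw [hJmul _ (mul_mem m1 m2) _ (mul_mem m3 (mul_mem m4 m5)), hJmul _ m1 _ m2,
        hJmul _ m3 _ (mul_mem m4 m5), hJmul _ m4 _ m5, e1, e2, e3, e4, e5]
      rfl
    choose a haA haJ using hgen
    have hkill : ∀ e : ↥(oc z ⊓ oc (cj z g) : Subgroup G), ∀ b : Bool,
        ((e : G) * if b then cj z g else 1) ∈ S.PA g ∧
          J ((e : G) * if b then cj z g else 1) = 0 := by
      intro e b
      have he := d_mem O' (Subgroup.mem_inf.1 e.2).1 (Subgroup.mem_inf.1 e.2).2
      have hJe : J (e : G) = 0 := by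
        show jcode _ = 0
        simp only [S.act_inner (Subgroup.mem_inf.1 e.2).1, oG_one_apply, v_add_self, cd_eq_zero.2 rfl]
        rfl
      have hJs : J (cj z g) = 0 := by
        show jcode _ = 0
        have : ∀ b ∈ [4, 8, 64, 128], (cd (u.1 (dc b) + dc b)).val = 0 := fun b hb => by
          rw [hbu b hb, v_add_self]; exact cd_eq_zero.2 rfl
        simp only [jcode]
        rw [this 4 (by simp), this 8 (by simp), this 64 (by simp), this 128 (by simp)]
        rfl
      cases b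
      · simpa using ⟨he, hJe⟩
      · refine ⟨by simpa using mul_mem he (s_mem O'), ?_⟩
        simp only [if_true]
        rw [hJmul _ he _ (s_mem O'), hJe, hJs]
        rfl
    have hDcard : 4 ≤ Nat.card ↥(oc z ⊓ oc (cj z g) : Subgroup G) := by
      have hinj : Function.Injective (![(⟨1, one_mem _⟩ : ↥(oc z ⊓ oc (cj z g) : Subgroup G)),
          ⟨d, hd, hd'⟩, ⟨c * d * c⁻¹, hd2, hd2'⟩, ⟨d * (c * d * c⁻¹), mul_mem hd hd2, mul_mem hd' hd2'⟩]) := by
        have hv : ∀ i, (cd (S.pr ((![(⟨1, one_mem _⟩ : ↥(oc z ⊓ oc (cj z g) : Subgroup G)),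
          ⟨d, hd, hd'⟩, ⟨c * d * c⁻¹, hd2, hd2'⟩,
          ⟨d * (c * d * c⁻¹), mul_mem hd hd2, mul_mem hd' hd2'⟩] i : ↥(oc z ⊓ oc (cj z g) : Subgroup G)) : G))).val =
            ![0, (cd (S.pr d)).val, wn w (cd (S.pr d)).val,
              (cd (S.pr d)).val ^^^ wn w (cd (S.pr d)).val] i := by
          intro i
          fin_cases i
          · simpa [S.pr_one] using cd_eq_zero.2 rfl
          · simp
          · simpa using hp2
          · simp [S.pr_mul d hd _ hd2, cd_xor, hp2]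
        have hinj' : Function.Injective ![0, (cd (S.pr d)).val, wn w (cd (S.pr d)).val,
            (cd (S.pr d)).val ^^^ wn w (cd (S.pr d)).val] := by
          have key : ∀ a ∈ uL 0, ∀ b ∈ uL 0, a ≠ 0 → b ≠ 0 → b ≠ a →
              ∀ i j : Fin 4, ![0, a, b, a ^^^ b] i = ![0, a, b, a ^^^ b] j → i = j := by decide +kernel
          exact fun i j => key _ hdU _ hmem hd0 hne0 hne i j
        intro i j h
        exact hinj' (by rw [← hv i, ← hv j, h])
      simpa using Nat.card_le_card_of_injective _ hinj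
    have key := Nat.card_le_card_of_injective
      (fun p : Fin 32 × (↥(oc z ⊓ oc (cj z g) : Subgroup G) × Bool) =>
        (⟨a p.1 * ((p.2.1 : G) * if p.2.2 then cj z g else 1),
          mul_mem (haA p.1) (hkill p.2.1 p.2.2).1⟩ : ↥(S.PA g))) (by
      rintro ⟨i, e, b⟩ ⟨i', e', b'⟩ h
      have h' := congrArg Subtype.val h
      dsimp only at h'
      have hi : i = i' := span_code _ _ (by
        have := congrArg J h'
        rwa [hJmul _ (haA i) _ (hkill e b).1, hJmul _ (haA i') _ (hkill e' b').1, (hkill e b).2,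
          (hkill e' b').2, haJ, haJ, Nat.xor_zero, Nat.xor_zero] at this)
      subst hi
      have h2 := mul_left_cancel h'
      cases b <;> cases b'
      · simp only [Bool.false_eq_true, if_false, mul_one] at h2
        rw [Subtype.ext h2]
      · exfalso
        simp only [Bool.false_eq_true, if_false, mul_one, if_true] at h2
        exact O'.notMem (by
          have := mul_mem (inv_mem (Subgroup.mem_inf.1 e'.2).1) (Subgroup.mem_inf.1 e.2).1
          rwa [h2, inv_mul_cancel_left] at this)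
      · exfalso
        simp only [Bool.false_eq_true, if_false, mul_one, if_true] at h2
        exact O'.notMem (by
          have := mul_mem (inv_mem (Subgroup.mem_inf.1 e.2).1) (Subgroup.mem_inf.1 e'.2).1
          rwa [← h2, inv_mul_cancel_left] at this)
      · simp only [if_true] at h2
        rw [Subtype.ext (mul_right_cancel h2)])
    rw [Nat.card_prod, Nat.card_prod, Nat.card_fin, Nat.card_eq_fintype_card (α := Bool),
      Fintype.card_bool] at key
    omega

/-- No common element lies over the commutator space. -/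
theorem no_range_rep {k : Fin 5} (hk : IsR (S.act (cj z g)) k) (hS : S.Surj) {d : G} (hd : d ∈ oc z)
    (hd' : d ∈ oc (cj z g)) {y : V} (hy : (S.act (cj z g)).1 y + y = S.pr d) : S.pr d = 0 := by
  by_contra h0
  have hU : (cd (S.pr d)).val ∈ uL k := hy ▸ hk.range_mem _
  have hns : ∀ x ∈ uL k, qn x = false := by
    intro x hx
    by_contra hq
    rw [Bool.not_eq_false] at hq
    have hx256 := (uL_code k x hx).1
    obtain ⟨hfix, y', hy'⟩ := hk.of_mem (x := dc x) (by rw [cd_val hx256]; exact hx)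
    refine not_cn_range O' y' ?_ ?_
    · rw [hy', q_dc hx256, hq]; rfl
    · rw [hy']; exact all_cn O' hd hd' h0 hy hfix
  rcases two_cases k with rfl | rfl | hk23 | hk23 | rfl
  · exact no_range_zero O' hS hk hd hd' h0 hU
  · obtain ⟨x, hx, hq⟩ := c2_code
    simp [hns x hx] at hq
  case _ | _ =>
    obtain ⟨w, hw, hne, hmem, hB⟩ := move4_code k (by simp [hk23]) _ hU (fun e => h0 (cd_eq_zero.1 e))
    obtain ⟨o, ho, hov, hcomm⟩ := exists_word hk (mov_code k w hw)
    obtain ⟨c', hcz, hcs, hca⟩ := exists_lift O' hS hk hd hd' h0 hy o ho hcomm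
    have hp : (S.pr (c' * d * c'⁻¹)) = dc (wn w (cd (S.pr d)).val) := by
      rw [S.act_spec c' hcz _ hd, hca, ← (hov _ (cd _).isLt).1, dc_cd]
    obtain ⟨-, y', hy'⟩ := hk.of_mem (x := S.pr (c' * d * c'⁻¹))
      (by rw [hp, cd_val (hov _ (cd _).isLt).2]; exact hmem)
    have h1 := d_pair O' hd hd' (S.nrm hcz hd) (conj_oc O' hcs hd') h0
      (fun e => h0 ((S.act c').1.map_eq_zero_iff.1 (by rw [← S.act_spec c' hcz _ hd, e])))
      (fun e => hne (by
        have := congrArg (fun v => (cd v).val) (e.trans hp)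
        rw [cd_val (hov _ (cd _).isLt).2] at this
        exact this.symm))
      hy hy'
    rw [hp, ← dc_cd y, Bp_dc (cd _).isLt (hov _ (cd _).isLt).2,
      hB (cd _) (by
        have h3 := congrArg (fun v => (cd v).val) hy
        rw [cd_xor, hk.apply, cd_val (rn_lt k (cd _))] at h3
        exact h3)] at h1
    exact zero_ne_one h1
  · obtain ⟨x, hx, hq⟩ := c4_code.1
    simp [hns x hx] at hq

omit O' in
/-- No common element lies over the commutator space. -/
theorem nr_of_surj (S : CoW z) (hS : S.Surj) : S.NR := by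
  intro g O' d hd hd' y hy
  obtain ⟨r, hr, O₂, k, hk⟩ := exists_twist O'
  refine (map_eq_zero_iff r.1 r.1.injective).1 (no_range_rep O₂ hk ?_ hd hd' (y := r.1 y) ?_)
  · intro o ho
    obtain ⟨c, hc, e⟩ := hS (r⁻¹ * o * r) (by
      have hm := fun a b : Cfsg.Agent.CoOneType.O => dsign_mul nondegP4 (Or.inr (by simp)) a b
      rw [hm, hm, ho, mul_one, ← hm, inv_mul_cancel, dsign_one])
    exact ⟨c, hc, show r * S.act c * r⁻¹ = o by rw [e]; group⟩
  · show (r * S.act (cj z g) * r⁻¹).1 (r.1 y) + r.1 y = r.1 (S.pr d)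
    rw [oG_mul_apply, oG_mul_apply, oG_inv_apply, ← map_add, hy]

end CoW

end Cfsg.Agent.CoOneWeak
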