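import Cfsg.Agent.CoOneWeak.Setting

/-!
A conjugate `s` of `z` centralising `z` but outside `O_2(C(z))`.
-/

set_option autoImplicit false

open Cfsg Cfsg.Agent.ThreeTrans.OrthCohom Cfsg.Agent.Classical.Quad QuadraticMap Cfsg.Agent.LargeExtra
open Cfsg.Agent.CoOneType

namespace Cfsg.Agent.CoOneWeak

/-- The conjugate of `z` by `g`. -/
scoped notation:max "cj " z:max g:max => g * z * g⁻¹

variable {G : Type*} [Group G] [Finite G]

namespace CoW

variable {z : G}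

/-- A conjugate of `z` in the centraliser of `z`, outside `O_2(C(z))`. -/
structure Out (_S : CoW z) (g : G) : Prop where
  comm : cj z g * z = z * cj z g
  notMem : cj z g ∉ oc z

/-- A lift of the vector centralises the conjugate. -/
def Cn (S : CoW z) (g : G) (x : V) : Prop :=
  ∃ q ∈ oc z, S.pr q = x ∧ q * cj z g = cj z g * q

/-- The part of `O_2(C(s))` centralising `z`. -/
def PA (_S : CoW z) (g : G) : Subgroup G :=
  oc (cj z g) ⊓ Subgroup.centralizer ({z} : Set G)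

variable {S : CoW z} {g : G} (O : S.Out g)
include O

theorem ss : cj z g * cj z g = 1 := by
  rw [show cj z g * cj z g = g * (z * z) * g⁻¹ by group, S.zz]; group

theorem sinv : (cj z g)⁻¹ = cj z g := inv_eq_of_mul_eq_one_right (ss O)

theorem sne : cj z g ≠ 1 := fun e => O.notMem (e ▸ one_mem _)

theorem sset : Setting (cj z g) := S.sett.conj g

theorem pull {x : G} (hx : x ∈ oc (cj z g)) : g⁻¹ * x * g ∈ oc z := by
  have h := conj_mem_oc (g := g⁻¹) hx
  rwa [inv_inv, show g⁻¹ * cj z g * g = z by group] at h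

omit O in
theorem push {x : G} (hx : x ∈ oc z) : g * x * g⁻¹ ∈ oc (cj z g) := conj_mem_oc hx

theorem swap : S.Out g⁻¹ := by
  refine ⟨?_, fun h => O.notMem ?_⟩
  · calc cj z g⁻¹ * z = g⁻¹ * (z * cj z g) * g := by group
      _ = g⁻¹ * (cj z g * z) * g := by rw [O.comm]
      _ = z * cj z g⁻¹ := by group
  · have e := S.weak g⁻¹ h
    have : cj z g = z := by
      calc cj z g = g * cj z g⁻¹ * g⁻¹ := by rw [e]
        _ = z := by group
    rw [this]; exact S.zmem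

/-- No further conjugate of `z` lies in `O_2(C(s))`. -/
theorem unique {k : G} (h : cj z k ∈ oc (cj z g)) : cj z k = cj z g := by
  have h1 := pull O h
  have e := S.weak (g⁻¹ * k) (by rwa [show g⁻¹ * k * z * (g⁻¹ * k)⁻¹ = g⁻¹ * cj z k * g by group])
  calc cj z k = g * (g⁻¹ * k * z * (g⁻¹ * k)⁻¹) * g⁻¹ := by group
    _ = cj z g := by rw [e]

theorem z_notMem : z ∉ oc (cj z g) := fun h => O.notMem (by
  have e := unique O (k := 1) (by simpa using h)
  rw [← e]; simpa using S.zmem)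

theorem act_sq : S.act (cj z g) * S.act (cj z g) = 1 := by
  rw [← S.act_mul O.comm O.comm, ss O, S.act_one]

theorem act_ne : S.act (cj z g) ≠ 1 := fun e => O.notMem (S.act_ker _ O.comm e)

theorem shift {c : G} (hc : c * z = z * c) :
    S.Out (c * g) ∧ S.act (cj z (c * g)) = S.act c * S.act (cj z g) * (S.act c)⁻¹ := by
  have e : cj z (c * g) = c * cj z g * c⁻¹ := by group
  have hci : c⁻¹ * z = z * c⁻¹ := (Commute.inv_left hc).eq
  refine ⟨⟨?_, fun h => O.notMem ?_⟩, ?_⟩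
  · rw [e]; exact Commute.mul_left (Commute.mul_left hc O.comm) hci
  · rw [e] at h
    have := S.nrm hci h
    rwa [show c⁻¹ * (c * cj z g * c⁻¹) * c⁻¹⁻¹ = cj z g by group] at this
  · rw [e, S.act_mul (Commute.mul_left hc O.comm).eq hci, S.act_mul hc O.comm, S.act_inv hc]

/-! ### The centralised vectors -/

theorem cn_iff {q : G} (hq : q ∈ oc z) : S.Cn g (S.pr q) ↔ q * cj z g = cj z g * q := by
  refine ⟨fun ⟨p, hp, hpr, hc⟩ => ?_, fun h => ⟨q, hq, rfl, h⟩⟩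
  rcases S.pr_eq hp hq hpr with e | e
  · rw [e]; exact hc
  · rw [e]; exact Commute.mul_left hc O.comm.symm

theorem cn_fix {x : V} (h : S.Cn g x) : (S.act (cj z g)).1 x = x := by
  obtain ⟨q, hq, rfl, hc⟩ := h
  rw [← S.act_spec _ O.comm q hq, ← hc, mul_inv_cancel_right]

theorem cn_zero : S.Cn g 0 := ⟨1, one_mem _, S.pr_one, by rw [one_mul, mul_one]⟩

theorem cn_add {x y : V} (hx : S.Cn g x) (hy : S.Cn g y) : S.Cn g (x + y) := by
  obtain ⟨a, ha, rfl, hac⟩ := hx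
  obtain ⟨b, hb, rfl, hbc⟩ := hy
  exact ⟨a * b, mul_mem ha hb, S.pr_mul a ha b hb, Commute.mul_left hac hbc⟩

theorem moved {x : V} (hf : (S.act (cj z g)).1 x = x) (hn : ¬ S.Cn g x) :
    ∃ q ∈ oc z, S.pr q = x ∧ cj z g * q * (cj z g)⁻¹ = q * z := by
  obtain ⟨q, hq, rfl⟩ := S.pr_surj x
  refine ⟨q, hq, rfl, ?_⟩
  rcases S.pr_eq hq (S.nrm O.comm hq) (by rw [S.act_spec _ O.comm q hq, hf]) with e | e
  · exact absurd ((cn_iff O hq).2 (mul_inv_eq_iff_eq_mul.1 e).symm) hn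
  · exact e

theorem cn_two {x y : V} (hx : (S.act (cj z g)).1 x = x) (hy : (S.act (cj z g)).1 y = y)
    (hnx : ¬ S.Cn g x) (hny : ¬ S.Cn g y) : S.Cn g (x + y) := by
  obtain ⟨a, ha, rfl, ea⟩ := moved O hx hnx
  obtain ⟨b, hb, rfl, eb⟩ := moved O hy hny
  refine ⟨a * b, mul_mem ha hb, S.pr_mul a ha b hb, ?_⟩
  have e : cj z g * (a * b) * (cj z g)⁻¹ = a * b := by
    rw [show cj z g * (a * b) * (cj z g)⁻¹ =
      (cj z g * a * (cj z g)⁻¹) * (cj z g * b * (cj z g)⁻¹) by group, ea, eb, mul_assoc a,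
      ← mul_assoc z, ← S.comm hb, mul_assoc b, S.zz, mul_one]
  exact (mul_inv_eq_iff_eq_mul.1 e).symm

/-- An element moved to its translate by `z` makes `s * z` a conjugate of `z`. -/
theorem sz_conj_of_moved {x : V} (hf : (S.act (cj z g)).1 x = x) (hn : ¬ S.Cn g x) :
    IsConj z (cj z g * z) := by
  obtain ⟨q, hq, -, e⟩ := moved O hf hn
  rw [sinv O] at e
  refine isConj_iff.2 ⟨q⁻¹ * g, ?_⟩
  rw [show q⁻¹ * g * z * (q⁻¹ * g)⁻¹ = q⁻¹ * cj z g * q by group]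
  calc q⁻¹ * cj z g * q = q⁻¹ * (cj z g * q * cj z g * cj z g) := by
        rw [mul_assoc (cj z g * q), ss O, mul_one, mul_assoc]
    _ = z * cj z g := by rw [e]; group
    _ = cj z g * z := O.comm.symm

theorem sz_swap (h : IsConj z (cj z g⁻¹ * z)) : IsConj z (cj z g * z) := by
  refine h.trans (isConj_iff.2 ⟨g, ?_⟩)
  calc g * (cj z g⁻¹ * z) * g⁻¹ = z * cj z g := by group
    _ = cj z g * z := O.comm.symm

/-- The commutator of a lift with `s`. -/
theorem range_lift {y : V} {p : G} (hp : p ∈ oc z) (hpy : S.pr p = y) :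
    cj z g * p * (cj z g)⁻¹ * p⁻¹ ∈ oc z ∧
      S.pr (cj z g * p * (cj z g)⁻¹ * p⁻¹) = (S.act (cj z g)).1 y + y := by
  have h1 := S.nrm O.comm hp
  exact ⟨mul_mem h1 (inv_mem hp), by
    rw [S.pr_mul _ h1 _ (inv_mem hp), S.act_spec _ O.comm p hp, S.pr_inv hp, hpy]⟩

theorem cn_range (y : V) (hq : qP 4 ((S.act (cj z g)).1 y + y) = 0) :
    S.Cn g ((S.act (cj z g)).1 y + y) := by
  obtain ⟨p, hp, hpy⟩ := S.pr_surj y
  obtain ⟨ht, hte⟩ := range_lift O hp hpy
  set t := cj z g * p * (cj z g)⁻¹ * p⁻¹ with htdef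
  refine ⟨t, ht, hte, ?_⟩
  have h2 : t * t = 1 := by rw [S.pr_sq t ht, hte, hq, zp_zero]
  have h3 : cj z g * t * (cj z g)⁻¹ = t⁻¹ := by
    refine eq_inv_of_mul_eq_one_left ?_
    rw [htdef]
    calc cj z g * (cj z g * p * (cj z g)⁻¹ * p⁻¹) * (cj z g)⁻¹ * (cj z g * p * (cj z g)⁻¹ * p⁻¹)
        = (cj z g * cj z g) * (p * (cj z g * cj z g)⁻¹ * p⁻¹) := by group
      _ = 1 := by rw [ss O]; group
  rw [inv_eq_of_mul_eq_one_right h2] at h3
  exact (mul_inv_eq_iff_eq_mul.1 h3).symm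

theorem not_cn_range (y : V) (hq : qP 4 ((S.act (cj z g)).1 y + y) = 1) :
    ¬ S.Cn g ((S.act (cj z g)).1 y + y) := by
  intro hcn
  obtain ⟨p, hp, hpy⟩ := S.pr_surj y
  obtain ⟨ht, hte⟩ := range_lift O hp hpy
  set t := cj z g * p * (cj z g)⁻¹ * p⁻¹ with htdef
  rw [← hte, cn_iff O ht] at hcn
  have h2 : t * t = z := by rw [S.pr_sq t ht, hte, hq, zp_one]
  have h3 : cj z g * t * (cj z g)⁻¹ = t⁻¹ := by
    refine eq_inv_of_mul_eq_one_left ?_
    rw [htdef]
    calc cj z g * (cj z g * p * (cj z g)⁻¹ * p⁻¹) * (cj z g)⁻¹ * (cj z g * p * (cj z g)⁻¹ * p⁻¹)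
        = (cj z g * cj z g) * (p * (cj z g * cj z g)⁻¹ * p⁻¹) := by group
      _ = 1 := by rw [ss O]; group
  rw [← hcn, mul_inv_cancel_right] at h3
  have h4 : t * t = 1 := by conv_lhs => arg 2; rw [h3]
                            exact mul_inv_cancel t
  exact S.zne (h2.symm.trans h4)

/-! ### The common part -/

theorem d_comm {d : G} (hd' : d ∈ oc (cj z g)) : d * cj z g = cj z g * d :=
  (sset O).comm_z hd'

theorem d_cn {d : G} (hd : d ∈ oc z) (hd' : d ∈ oc (cj z g)) : S.Cn g (S.pr d) :=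
  ⟨d, hd, rfl, d_comm O hd'⟩

theorem d_zero {d : G} (hd : d ∈ oc z) (hd' : d ∈ oc (cj z g)) (h : S.pr d = 0) : d = 1 :=
  (S.pr_ker d hd h).resolve_right fun e => z_notMem O (e ▸ hd')

theorem d_inj {d e : G} (hd : d ∈ oc z) (hd' : d ∈ oc (cj z g)) (he : e ∈ oc z)
    (he' : e ∈ oc (cj z g)) (h : S.pr d = S.pr e) : d = e := by
  have := d_zero O (mul_mem (inv_mem hd) he) (mul_mem (inv_mem hd') he')
    (by rw [S.pr_mul _ (inv_mem hd) _ he, S.pr_inv hd, h, v_add_self])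
  exact inv_mul_eq_one.1 this

theorem d_singular {d : G} (hd : d ∈ oc z) (hd' : d ∈ oc (cj z g)) : qP 4 (S.pr d) = 0 := by
  refine zp_inj S.zne ?_
  rw [zp_zero, ← S.pr_sq d hd]
  rcases zmod_cases (qP 4 (S.pr d)) with e | e
  · rw [S.pr_sq d hd, e, zp_zero]
  · exfalso
    exact z_notMem O (by
      have := mul_mem hd' hd'
      rwa [S.pr_sq d hd, e, zp_one] at this)

theorem conj_oc {x r : G} (hx : x * cj z g = cj z g * x) (hr : r ∈ oc (cj z g)) :
    x * r * x⁻¹ ∈ oc (cj z g) :=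
  oc_conj_mem (Subgroup.mem_centralizer_singleton_iff.2 hx) hr

theorem d_perp {d : G} (hd : d ∈ oc z) (hd' : d ∈ oc (cj z g)) {x : V} (hx : S.Cn g x) :
    Bp x (S.pr d) = 0 := by
  obtain ⟨p, hp, rfl, hc⟩ := hx
  rw [← S.commute_iff hp hd]
  rcases S.sett.commutator_cases hp hd with e | e
  · exact commutatorElement_eq_one_iff_mul_comm.1 e
  · refine absurd ?_ (z_notMem O)
    have := mul_mem (conj_oc O hc hd') (inv_mem hd')
    rwa [e] at this

/-- A common element in the commutator space. -/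
theorem d_range {d p : G} (hd : d ∈ oc z) (hd' : d ∈ oc (cj z g)) (h0 : S.pr d ≠ 0) (hp : p ∈ oc z)
    (hy : (S.act (cj z g)).1 (S.pr p) + S.pr p = S.pr d) :
    cj z g * p * (cj z g)⁻¹ * p⁻¹ = d * z := by
  obtain ⟨ht, hte⟩ := range_lift O hp rfl
  rcases S.pr_eq hd ht (hte.trans hy).symm with e | e
  · exfalso
    have hk : cj z (p * g) = cj z g * d := by
      rw [← e, sinv O]
      calc cj z (p * g) = p * cj z g * p⁻¹ := by group
        _ = (cj z g * cj z g) * (p * cj z g * p⁻¹) := by rw [ss O, one_mul]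
        _ = cj z g * (cj z g * p * cj z g * p⁻¹) := by group
    have h := unique O (k := p * g) (hk ▸ mul_mem (mem_oc_self (sset O).ord) hd')
    rw [hk, mul_eq_left] at h
    exact h0 (by rw [h, S.pr_one])
  · exact e

theorem all_cn {d : G} (hd : d ∈ oc z) (hd' : d ∈ oc (cj z g)) (h0 : S.pr d ≠ 0) {y : V}
    (hy : (S.act (cj z g)).1 y + y = S.pr d) {x : V} (hx : (S.act (cj z g)).1 x = x) : S.Cn g x := by
  by_contra hn
  obtain ⟨q, hq, rfl, e⟩ := moved O hx hn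
  obtain ⟨p, hp, rfl⟩ := S.pr_surj y
  have e1 := d_range O hd hd' h0 hp hy
  have e2 := d_range O hd hd' h0 (mul_mem hp hq) (by
    rw [S.pr_mul p hp q hq, map_add, hx, add_add_add_comm, v_add_self, add_zero, hy])
  have e3 : cj z g * (p * q) * (cj z g)⁻¹ * (p * q)⁻¹ = d * z * z := by
    rw [show cj z g * (p * q) * (cj z g)⁻¹ * (p * q)⁻¹ =
      (cj z g * p * (cj z g)⁻¹) * (cj z g * q * (cj z g)⁻¹ * q⁻¹) * p⁻¹ by group, e,
      show q * z * q⁻¹ = z by rw [S.comm hq, mul_inv_cancel_right],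
      mul_assoc (cj z g * p * (cj z g)⁻¹), ← (Commute.inv_left (S.comm hp)).eq, ← mul_assoc, e1]
  rw [e3, mul_eq_left] at e2
  exact S.zne e2

theorem not_sz {d : G} (hd : d ∈ oc z) (hd' : d ∈ oc (cj z g)) (h0 : S.pr d ≠ 0) {y : V}
    (hy : (S.act (cj z g)).1 y + y = S.pr d) : ¬ IsConj z (cj z g * z) := by
  intro h
  obtain ⟨k, hk⟩ := isConj_iff.1 h
  obtain ⟨p, hp, rfl⟩ := S.pr_surj y
  have e1 := d_range O hd hd' h0 hp hy
  have e : cj z (p * k) = cj z g * d := by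
    calc cj z (p * k) = p * (k * z * k⁻¹) * p⁻¹ := by group
      _ = p * cj z g * p⁻¹ * (p * z * p⁻¹) := by rw [hk]; group
      _ = (cj z g * cj z g) * (p * cj z g * p⁻¹) * z := by
          rw [ss O, one_mul, S.comm hp, mul_inv_cancel_right]
      _ = cj z g * (cj z g * p * (cj z g)⁻¹ * p⁻¹) * z := by rw [sinv O]; group
      _ = cj z g * d := by rw [e1, mul_assoc, mul_assoc d, S.zz, mul_one]
  have h1 := unique O (k := p * k) (e ▸ mul_mem (mem_oc_self (sset O).ord) hd')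
  rw [e, mul_eq_left] at h1
  exact h0 (by rw [h1, S.pr_one])

theorem d_pair {d e : G} (hd : d ∈ oc z) (hd' : d ∈ oc (cj z g)) (he : e ∈ oc z)
    (he' : e ∈ oc (cj z g)) (h0 : S.pr d ≠ 0) (h0' : S.pr e ≠ 0) (hne : S.pr d ≠ S.pr e) {y y' : V}
    (hy : (S.act (cj z g)).1 y + y = S.pr d) (hy' : (S.act (cj z g)).1 y' + y' = S.pr e) :
    Bp y (S.pr e) = 1 := by
  obtain ⟨p, hp, rfl⟩ := S.pr_surj y
  obtain ⟨q, hq, rfl⟩ := S.pr_surj y'
  refine (zmod_cases _).resolve_left fun h => ?_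
  rw [← S.commute_iff hp he] at h
  have e1 := d_range O hd hd' h0 hp hy
  have e2 := d_range O he he' h0' hq hy'
  have e3 := d_range O (mul_mem hd he) (mul_mem hd' he') (fun e0 => hne (v_eq_of_add (by
    rwa [S.pr_mul d hd e he] at e0))) (mul_mem hp hq) (by
    rw [S.pr_mul p hp q hq, map_add, add_add_add_comm, hy, hy', S.pr_mul d hd e he])
  have e4 : cj z g * (p * q) * (cj z g)⁻¹ * (p * q)⁻¹ = d * z * (e * z) := by
    rw [show cj z g * (p * q) * (cj z g)⁻¹ * (p * q)⁻¹ =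
      (cj z g * p * (cj z g)⁻¹) * (cj z g * q * (cj z g)⁻¹ * q⁻¹) * p⁻¹ by group, e2,
      mul_assoc (cj z g * p * (cj z g)⁻¹),
      show e * z * p⁻¹ = p⁻¹ * (e * z) from ((Commute.mul_left
        (show Commute e p from h.symm) (show Commute z p from (S.comm hp).symm)).inv_right).eq,
      ← mul_assoc, e1]
  rw [e4, ← mul_assoc, mul_assoc d z e, ← S.comm he, ← mul_assoc, mul_assoc (d * e) z z, S.zz, mul_one,
    left_eq_mul] at e3
  exact S.zne e3

/-! ### The part of `O_2(C(s))` centralising `z` -/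

omit O in
theorem pa_comm {r : G} (hr : r ∈ S.PA g) : r * z = z * r :=
  Subgroup.mem_centralizer_singleton_iff.1 hr.2

theorem pa_s {r : G} (hr : r ∈ S.PA g) : r * cj z g = cj z g * r := d_comm O hr.1

theorem pa_u {r : G} (hr : r ∈ S.PA g) (x : V) :
    (S.act r).1 ((S.act (cj z g)).1 x) = (S.act (cj z g)).1 ((S.act r).1 x) := by
  rw [← oG_mul_apply, ← oG_mul_apply, ← S.act_mul (pa_comm hr) O.comm,
    ← S.act_mul O.comm (pa_comm hr), pa_s O hr]

theorem s_mem : cj z g ∈ S.PA g :=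
  ⟨mem_oc_self (sset O).ord, Subgroup.mem_centralizer_singleton_iff.2 O.comm⟩

theorem d_mem {d : G} (hd : d ∈ oc z) (hd' : d ∈ oc (cj z g)) : d ∈ S.PA g :=
  ⟨hd', Subgroup.mem_centralizer_singleton_iff.2 (S.comm hd)⟩

theorem pa_comm_cases {r t : G} (hr : r ∈ oc (cj z g)) (ht : t ∈ oc (cj z g)) :
    r * t * r⁻¹ * t⁻¹ = 1 ∨ r * t * r⁻¹ * t⁻¹ = cj z g := (sset O).commutator_cases hr ht

theorem pa_fix_d {r : G} (hr : r ∈ S.PA g) {d : G} (hd : d ∈ oc z) (hd' : d ∈ oc (cj z g)) :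
    (S.act r).1 (S.pr d) = S.pr d := by
  rw [← S.act_spec r (pa_comm hr) d hd]
  rcases pa_comm_cases O hr.1 hd' with e | e
  · rw [mul_inv_eq_one.1 e]
  · refine absurd ?_ O.notMem
    have := mul_mem (S.nrm (pa_comm hr) hd) (inv_mem hd)
    rwa [e] at this

theorem pa_move {r : G} (hr : r ∈ S.PA g) {x : V} (hx : S.Cn g x) :
    ∃ d ∈ oc z, d ∈ oc (cj z g) ∧ S.pr d = (S.act r).1 x + x := by
  obtain ⟨p, hp, rfl, hc⟩ := hx
  have hn := S.nrm (pa_comm hr) hp
  refine ⟨r * p * r⁻¹ * p⁻¹, mul_mem hn (inv_mem hp), ?_,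
    by rw [S.pr_mul _ hn _ (inv_mem hp), S.act_spec r (pa_comm hr) p hp, S.pr_inv hp]⟩
  rw [show r * p * r⁻¹ * p⁻¹ = r * (p * r⁻¹ * p⁻¹) by group]
  exact mul_mem hr.1 (conj_oc O hc (inv_mem hr.1))

theorem act_inj (hD : ∀ d ∈ oc z, d ∈ oc (cj z g) → d = 1) {r t : G} (hr : r ∈ S.PA g)
    (ht : t ∈ S.PA g) (h : S.act r = S.act t) : r = t := by
  have hm := mul_mem (inv_mem hr) ht
  have hri : r⁻¹ * z = z * r⁻¹ := (Commute.inv_left (pa_comm hr)).eq
  have := hD _ (S.act_ker _ (pa_comm hm) (by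
    rw [S.act_mul hri (pa_comm ht), S.act_inv (pa_comm hr), h, inv_mul_cancel])) hm.1
  exact inv_mul_eq_one.1 this

/-- The part of `O_2(C(s))` centralising `z` is the image of the elements centralising the conjugate
the other way. -/
theorem pa_pull {r : G} (hr : r ∈ S.PA g) :
    g⁻¹ * r * g ∈ oc z ∧ (g⁻¹ * r * g) * cj z g⁻¹ = cj z g⁻¹ * (g⁻¹ * r * g) := by
  refine ⟨pull O hr.1, ?_⟩
  calc g⁻¹ * r * g * cj z g⁻¹ = g⁻¹ * (r * z) * g := by group
    _ = g⁻¹ * (z * r) * g := by rw [pa_comm hr]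
    _ = _ := by group

theorem pa_push {q : G} (hq : q ∈ oc z) (hc : q * cj z g⁻¹ = cj z g⁻¹ * q) :
    g * q * g⁻¹ ∈ S.PA g := by
  refine ⟨push hq, Subgroup.mem_centralizer_singleton_iff.2 ?_⟩
  calc g * q * g⁻¹ * z = g * (q * cj z g⁻¹) * g⁻¹ := by group
    _ = g * (cj z g⁻¹ * q) * g⁻¹ := by rw [hc]
    _ = z * (g * q * g⁻¹) := by group

theorem card_pa : Nat.card ↥(S.PA g) = 2 * Nat.card {x : V // S.Cn g⁻¹ x} := by
  classical
  have O' := swap O
  have hl : ∀ x : {x : V // S.Cn g⁻¹ x}, ∃ q ∈ oc z, S.pr q = x.1 := fun x => S.pr_surj _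
  choose l hl1 hl2 using hl
  have hc : ∀ (x : {x : V // S.Cn g⁻¹ x}) (e : ZMod 2),
      (l x * zp z e) * cj z g⁻¹ = cj z g⁻¹ * (l x * zp z e) := fun x e =>
    Commute.mul_left ((cn_iff O' (hl1 x)).1 (by rw [hl2]; exact x.2))
      (S.comm_zp O'.comm e).symm
  let f : {x : V // S.Cn g⁻¹ x} × ZMod 2 → ↥(S.PA g) := fun a =>
    ⟨_, pa_push O (mul_mem (hl1 a.1) (S.zp_mem a.2)) (hc a.1 a.2)⟩
  have hf : Function.Bijective f := by
    constructor
    · rintro ⟨x, e⟩ ⟨x', e'⟩ h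
      have h1 : l x * zp z e = l x' * zp z e' :=
        mul_left_cancel (mul_right_cancel (congrArg Subtype.val h))
      have h2 : x = x' := Subtype.ext (by
        have := congrArg S.pr h1
        rwa [S.pr_mul _ (hl1 x) _ (S.zp_mem e), S.pr_mul _ (hl1 x') _ (S.zp_mem e'), S.pr_zp,
          S.pr_zp, add_zero, add_zero, hl2, hl2] at this)
      subst h2
      exact Prod.ext rfl (zp_inj S.zne (mul_left_cancel h1))
    · rintro ⟨r, hr⟩
      obtain ⟨hq, hqc⟩ := pa_pull O hr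
      set x : {x : V // S.Cn g⁻¹ x} := ⟨S.pr (g⁻¹ * r * g), _, hq, rfl, hqc⟩
      rcases S.pr_eq (hl1 x) hq (hl2 x) with e | e
      · refine ⟨(x, 0), Subtype.ext ?_⟩
        show g * (l x * zp z 0) * g⁻¹ = r
        rw [zp_zero, mul_one, ← e]; group
      · refine ⟨(x, 1), Subtype.ext ?_⟩
        show g * (l x * zp z 1) * g⁻¹ = r
        rw [zp_one, ← e]; group
  rw [← Nat.card_congr (Equiv.ofBijective f hf), Nat.card_prod, Nat.card_zmod, mul_comm]

/-- A centralised vector in the commutator space the other way gives a commutator with `z`. -/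
theorem pa_commutator {r : G} (hr : r ∈ S.PA g) {w : V}
    (hw : (S.act (cj z g⁻¹)).1 w + w = S.pr (g⁻¹ * r * g)) :
    ∃ y ∈ oc (cj z g), z * y * z⁻¹ * y⁻¹ = r ∨ z * y * z⁻¹ * y⁻¹ = r * cj z g := by
  obtain ⟨hq, -⟩ := pa_pull O hr
  obtain ⟨p, hp, rfl⟩ := S.pr_surj w
  obtain ⟨ht, hte⟩ := range_lift (swap O) hp rfl
  refine ⟨g * p * g⁻¹, push hp, ?_⟩
  have e : z * (g * p * g⁻¹) * z⁻¹ * (g * p * g⁻¹)⁻¹ =
      g * (cj z g⁻¹ * p * (cj z g⁻¹)⁻¹ * p⁻¹) * g⁻¹ := by group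
  rcases S.pr_eq hq ht (hte.trans hw).symm with e' | e'
  · exact Or.inl (by rw [e, e']; group)
  · exact Or.inr (by rw [e, e']; group)

/-- A commutator with `z` centralising `z` gives a further conjugate. -/
theorem pa_out {y t : G} (ht : z * y * z⁻¹ * y⁻¹ = t) (htA : t ∈ S.PA g) (htQ : t ∉ oc z) :
    S.Out y ∧ S.act (cj z y) = S.act t := by
  have e : cj z y = z * t := by
    rw [← ht, inv_eq_of_mul_eq_one_right S.zz]
    calc cj z y = z * z * (y * z * y⁻¹) := by rw [S.zz, one_mul]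
      _ = z * (z * y * z * y⁻¹) := by group
  refine ⟨⟨?_, fun h => htQ ?_⟩, ?_⟩
  · rw [e]; exact Commute.mul_left (Commute.refl z) (pa_comm htA)
  · rw [e] at h
    simpa [← mul_assoc, S.zz] using mul_mem S.zmem h
  · rw [e, S.act_mul rfl (pa_comm htA), S.act_inner S.zmem, one_mul]

omit O in
/-- A conjugate outside stays one in other coordinates. -/
theorem out_twist (S : CoW z) (r : Cfsg.Agent.CoOneType.O) {g : G} (O' : S.Out g) :
    (S.twist r).Out g := ⟨O'.comm, O'.notMem⟩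

omit O in
/-- No common element lies over the commutator space. -/
def NR (S : CoW z) : Prop :=
  ∀ ⦃g : G⦄, S.Out g → ∀ ⦃d : G⦄, d ∈ oc z → d ∈ oc (cj z g) → ∀ ⦃y : V⦄,
    (S.act (cj z g)).1 y + y = S.pr d → S.pr d = 0

omit O in
theorem NR.twist {S : CoW z} (h : S.NR) (r : Cfsg.Agent.CoOneType.O) : (S.twist r).NR := by
  intro g O d hd hd' y hy
  refine (map_eq_zero_iff r.1 r.1.injective).2 (h (g := g) ⟨O.comm, O.notMem⟩ hd hd'
    (y := r⁻¹.1 y) ?_)
  have hy' : (r * S.act (cj z g) * r⁻¹).1 y + y = r.1 (S.pr d) := hy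
  refine r.1.injective ?_
  rw [map_add, ← hy', oG_mul_apply, oG_mul_apply, oG_apply_inv]

end CoW

end Cfsg.Agent.CoOneWeak
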