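import Cfsg.Agent.CoOneWeak.Main
import Cfsg.Prelude.Def_Spor_Conway

/-!
The first Conway group from an involution centraliser, given its recognition under the large extraspecial
hypothesis with a further conjugate of the involution in the extraspecial group.
-/

set_option autoImplicit false

open Cfsg

namespace Cfsg.Agent.CoOneWeak

/-- The reduction. -/
theorem isoCo1_of_recognition {G : Type*} [Group G] [Finite G] (hO : Cfsg.oddCore G = ⊥) (hZ : Subgroup.center G = ⊥) (t : G) (ht : orderOf t = 2) (hcon : Cfsg.IsPConstrained 2 (Subgroup.centralizer ({t} : Set G))) (hQ : Cfsg.IsExtraspecial 2 (Cfsg.pCore 2 (Subgroup.centralizer ({t} : Set G)))) (hcard : Nat.card (Cfsg.pCore 2 (Subgroup.centralizer ({t} : Set G))) = 2 ^ 9) (e : (Subgroup.centralizer ({t} : Set G)) ⧸ Cfsg.pCore 2 (Subgroup.centralizer ({t} : Set G)) ≃* Cfsg.Omega (ZMod 2) (Cfsg.quadFormPlus 4 (ZMod 2)))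
  (H : ∀ (z : G) (_ : orderOf z = 2) (Q : Subgroup (Subgroup.centralizer ({z} : Set G))) [Q.Normal] (_ : Cfsg.generalizedFittingSubgroup (Subgroup.centralizer ({z} : Set G)) = Q) (_ : Cfsg.IsExtraspecial 2 Q) (_ : Nat.card Q = 2 ^ 9) (_ : (Subgroup.centralizer ({z} : Set G)) ⧸ Q ≃* Cfsg.Omega (ZMod 2) (Cfsg.quadFormPlus 4 (ZMod 2))) (_ : ∃ g : G, (∃ hq : g * z * g⁻¹ ∈ Subgroup.centralizer ({z} : Set G), (⟨g * z * g⁻¹, hq⟩ : Subgroup.centralizer ({z} : Set G)) ∈ Q) ∧ g * z * g⁻¹ ≠ z), Cfsg.Spor.IsoCo1 G) : Cfsg.Spor.IsoCo1 G :=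
  H t ht _ (fstar_eq t hcon e) hQ hcard e (exists_conj_in_core hO hZ t ht hcon hQ hcard e)

end Cfsg.Agent.CoOneWeak
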