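import Cfsg.Agent.CoOneWeak.Base

/-!
The centre-of-involution setting in which no conjugate of `z` other than `z` lies in `O_2(C(z))`.
-/

set_option autoImplicit false

open Cfsg Cfsg.Agent.ThreeTrans.OrthCohom Cfsg.Agent.Classical.Quad QuadraticMap Cfsg.Agent.LargeExtra
open Cfsg.Agent.CoOneType

namespace Cfsg.Agent.CoOneWeak

variable {G : Type*} [Group G] [Finite G]

/-- The data attached to the involution. -/
structure CoW (z : G) extends Base z where
  weak : ∀ g : G, g * z * g⁻¹ ∈ oc z → g * z * g⁻¹ = z

namespace CoW

variable {z : G}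

/-- The same data in other coordinates. -/
def twist (S : CoW z) (r : O) : CoW z where
  toBase := S.toBase.twist r
  weak := S.weak

/-- Every isometry of spinor norm one is induced. -/
def Surj (S : CoW z) : Prop := ∀ g : O, dsign g = 1 → ∃ c, c * z = z * c ∧ S.act c = g

end CoW

end Cfsg.Agent.CoOneWeak
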