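import Cfsg.Agent.CoOneType.Codes

/-!
The five involutions of `Ω⁺(8, 2)` on codes, and the finite checks on them.
-/

set_option autoImplicit false
set_option maxRecDepth 100000
set_option maxHeartbeats 0
set_option Elab.async false

open Cfsg.Agent.CoOneType

namespace Cfsg.Agent.CoOneWeak

/-- The five representatives: two with commutator space of dimension two, three of dimension four. -/
def rn : Fin 5 → ℕ → ℕ
  | 0 => fun v => sgn 2 v
  | 1 => fun v => sgn 34 v
  | 2 => fun v => sgn 8 (s0n v)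
  | 3 => fun v => sgn 128 (s0n v)
  | 4 => fun v => sgn 136 (s0n v)

/-- The commutator spaces. -/
def uL : Fin 5 → List ℕ
  | 0 => [0, 1, 2, 3]
  | 1 => [0, 1, 34, 35]
  | 2 => [0, 1, 2, 3, 4, 5, 6, 7, 8, 9, 10, 11, 12, 13, 14, 15]
  | 3 => [0, 1, 2, 3, 4, 5, 6, 7, 128, 129, 130, 131, 132, 133, 134, 135]
  | 4 => [0, 1, 2, 3, 4, 5, 6, 7, 136, 137, 138, 139, 140, 141, 142, 143]

theorem rn_lt : ∀ k, ∀ v : Fin 256, rn k v.val < 256 := by decide +kernel

theorem img_code : ∀ k, ∀ v : Fin 256, rn k v.val ^^^ v.val ∈ uL k := by decide +kernel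

theorem uL_code : ∀ k, ∀ x ∈ uL k, x < 256 ∧ rn k x = x ∧ ∃ y : Fin 256, rn k y.val ^^^ y.val = x := by
  decide +kernel

/-- The commutator space is the orthogonal of the fixed space. -/
theorem perp_fix_code : ∀ k, ∀ y : Fin 256,
    (∀ p : Fin 256, rn k p.val = p.val → Bn p.val y.val = false) → y.val ∈ uL k := by decide +kernel

theorem big_fix_code : ∀ k : Fin 5, 2 ≤ k.val → ∀ v : Fin 256, rn k v.val = v.val → v.val ∈ uL k := by
  decide +kernel

/-- A word in products of two reflections, the first pair outermost. -/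
def wn : List (ℕ × ℕ) → ℕ → ℕ
  | [], v => v
  | p :: w, v => g2n p.1 p.2 (wn w v)

/-- The inverse word. -/
def winv (w : List (ℕ × ℕ)) : List (ℕ × ℕ) := (w.map fun p => (p.2, p.1)).reverse

/-- Words moving the vectors of the four-dimensional totally singular commutator spaces. -/
def mov : Fin 5 → List (List (ℕ × ℕ))
  | 0 => [[(17, 19)], [(17, 21), (25, 29)], [(34, 35), (17, 21), (145, 149)]]
  | 2 => [[(17, 25), (34, 38)], [(17, 25), (49, 61)], [(34, 38), (49, 61)], [(68, 70), (81, 91)],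
      [(136, 137), (162, 167)]]
  | 3 => [[(17, 145), (34, 38)], [(17, 145), (49, 181)], [(34, 38), (49, 181)], [(25, 152), (57, 188)],
      [(68, 70), (76, 79)]]
  | _ => []

theorem mov_code : ∀ k, ∀ w ∈ mov k, (∀ p ∈ w, p.1 < 256 ∧ p.2 < 256 ∧ qn p.1 = true ∧ qn p.2 = true) ∧
    ∀ v : Fin 256, wn w (rn k v.val) = rn k (wn w v.val) := by decide +kernel

theorem move4_code : ∀ k : Fin 5, k = 2 ∨ k = 3 → ∀ d ∈ uL k, d ≠ 0 → ∃ w ∈ mov k, wn w d ≠ d ∧
    wn w d ∈ uL k ∧ ∀ y : Fin 256, rn k y.val ^^^ y.val = d → Bn y.val (wn w d) = false := by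
  decide +kernel

theorem move0_code : ∀ d ∈ uL 0, d ≠ 0 → ∃ w ∈ mov 0, wn w d ≠ d ∧ wn w d ≠ 0 ∧ wn w d ∈ uL 0 := by
  decide +kernel

end Cfsg.Agent.CoOneWeak
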