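import Cfsg.Agent.CoOneWeak.Tables
import Cfsg.Agent.CoOneWeak.TablesDefs

/-!
Finite checks for the two representatives with commutator space of dimension two, and for the rank.
-/

set_option autoImplicit false
set_option maxRecDepth 100000
set_option maxHeartbeats 0
set_option Elab.async false

open Cfsg.Agent.CoOneType

namespace Cfsg.Agent.CoOneWeak

/-- A linear projection on the fixed space. -/
def prj (k : Fin 5) (v : ℕ) : ℕ :=
  if k = 0 then v &&& 207 else (v &&& 237) ^^^ ((v &&& 32) >>> 4)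

/-- The functionals on the fixed space, as codes. -/
def cs (k : Fin 5) : List ℕ :=
  if k = 0 then [0, 4, 8, 12, 64, 68, 72, 76, 128, 132, 136, 140, 192, 196, 200, 204]
  else [2, 6, 10, 14, 66, 70, 74, 78, 130, 134, 138, 142, 194, 198, 202, 206]

/-- A complement to the kernel of the functional. -/
def vs (k : Fin 5) (c : ℕ) : List ℕ :=
  if k = 0 then
    if c = 0 then [16, 32] else if c.testBit 6 then [4, 16, 32] else if c.testBit 7 then [8, 16, 32]
    else if c.testBit 2 then [16, 32, 64] else [16, 32, 128]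
  else if c.testBit 6 then [2, 4, 16] else if c.testBit 7 then [2, 8, 16] else [2, 16, 32]

/-- The orthogonal of the kernel of the functional. -/
def mL (k : Fin 5) (c : ℕ) : List ℕ := if c = 0 then uL k else uL k ++ (uL k).map (· ^^^ c)

/-- The kernel of the functional on the fixed space. -/
def inK (k : Fin 5) (c : ℕ) (x : ℕ) : Bool := fxb k x && !Bn x c

/-- Generators of the fixed space. -/
def fb (k : Fin 5) : List ℕ := if k = 0 then [1, 2, 4, 8, 64, 128] else [1, 34, 4, 8, 64, 128]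

/-- Generators of the kernel. -/
def kb (k : Fin 5) (c : ℕ) : List ℕ :=
  match (fb k).find? fun p => Bn p c with
  | some p₀ => (fb k).map fun p => if Bn p c then p ^^^ p₀ else p
  | none => fb k

/-- The choices of images. -/
def tuples (M : List ℕ) : ℕ → List (List ℕ)
  | 0 => [[]]
  | n + 1 => M.flatMap fun m => (tuples M n).map (m :: ·)

/-- The tests on the images. -/
def okM : List ℕ → List ℕ → Bool
  | v :: a, m :: b => qn (v ^^^ m) == qn v &&
      ((List.zip a b).all fun p => Bn (v ^^^ m) (p.1 ^^^ p.2) == Bn v p.1) && okM a b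
  | _, _ => true

/-- The admissible images. -/
def cands (k : Fin 5) (c : ℕ) : List (List ℕ) :=
  (tuples (mL k c) (vs k c).length).filter fun b => okM (vs k c) b

theorem cands_code : ∀ k : Fin 5, k.val < 2 → ∀ c ∈ cs k, ((cands k c).length ≤ 8 ∨
    ((cands k c).length ≤ 24 ∧ qn (if k = 0 then c else 34) = true)) ∧
    (c = 0 → (cands k c).length ≤ 2) := by
  decide +kernel

theorem fxb_code : ∀ k : Fin 5, k.val < 2 → ∀ x : Fin 256, (rn k x.val == x.val) = fxb k x.val ∧
    (fxb k x.val = true → ∀ u ∈ uL k, Bn x.val u = false) := by decide +kernel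

theorem kb_code : ∀ k : Fin 5, k.val < 2 → ∀ c ∈ cs k, ∀ p ∈ kb k c, p < 256 ∧ inK k c p = true := by
  decide +kernel

theorem vs_code : ∀ k : Fin 5, k.val < 2 → ∀ c ∈ cs k, c < 256 ∧ (∀ v ∈ vs k c, v < 256) ∧
    ∀ x : Fin 256, ∃ p ∈ sums (vs k c), inK k c (x.val ^^^ p) = true := by decide +kernel

theorem mL_code : ∀ k : Fin 5, k.val < 2 → ∀ c ∈ cs k, ∀ y : Fin 256,
    (∀ p ∈ kb k c, Bn p y.val = false) → y.val ∈ mL k c := by decide +kernel

theorem prj_code : ∀ k : Fin 5, k.val < 2 → ∀ v : Fin 256, prj k v.val < 256 ∧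
    rn k (prj k v.val) = prj k v.val ∧ (rn k v.val = v.val → prj k v.val = v.val) := by decide +kernel

theorem prj_xor (k : Fin 5) (v w : ℕ) : prj k (v ^^^ w) = prj k v ^^^ prj k w := by
  unfold prj
  split_ifs
  · exact Nat.and_xor_distrib_right
  · simp only [Nat.and_xor_distrib_right, Nat.shiftRight_xor_distrib]
    ac_rfl

theorem fb_code : ∀ k : Fin 5, k.val < 2 → ∀ x : Fin 256, rn k x.val = x.val →
    x.val ∈ sums (fb k) := by decide +kernel

theorem cs_code : ∀ k : Fin 5, k.val < 2 → ∀ c : Fin 256, (∀ x ∈ uL k, Bn x c.val = qn x) →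
    ∃ c₀ ∈ cs k, ∀ x ∈ fb k, Bn x c.val = Bn x c₀ := by decide +kernel

theorem noncomm_code : ∀ k : Fin 5, k.val < 2 → ∀ c ∈ cs k, ∃ x ∈ kb k c, ∃ y ∈ kb k c,
    Bn x y = true := by decide +kernel

theorem two_code : ∀ k : Fin 5, k.val < 2 → ∀ c ∈ cs k, ∀ d : Fin 256, inK k c d.val = true →
    (∀ p ∈ kb k c, Bn p d.val = false) → d.val ∉ uL k →
    (∀ m ∈ mL k c, m ∈ uL k ∨ m ^^^ d.val ∈ uL k) ∧
    ∃ x : Fin 256, Bn x.val d.val = false ∧ rn k x.val ≠ x.val := by decide +kernel

theorem c2_code : ∃ x ∈ uL 1, qn x = true := by decide +kernel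

theorem c4_code : (∃ x ∈ uL 4, qn x = true) ∧
    (∀ x : Fin 256, qn x.val = true → (∀ w ∈ uL 4, qn w = false → Bn x.val w = false) → x.val ∈ uL 4) ∧
    ((uL 4).filter fun m => qn (16 ^^^ m) == qn 16).length ≤ 8 ∧
    rn 4 16 ≠ 16 := by decide +kernel

end Cfsg.Agent.CoOneWeak
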