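import Cfsg.Agent.CoOneWeak.Frame
import Cfsg.Agent.CoOneWeak.TablesLow

/-!
Isometries fixing the kernel of a functional on the fixed space pointwise.
-/

set_option autoImplicit false
set_option maxRecDepth 100000

open Cfsg Cfsg.Agent.ThreeTrans.OrthCohom Cfsg.Agent.Classical.Quad QuadraticMap Cfsg.Agent.LargeExtra
open Cfsg.Agent.CoOneType

namespace Cfsg.Agent.CoOneWeak

/-- The kernel is fixed pointwise. -/
def KFix (g : O) (k : Fin 5) (c : ℕ) : Prop := ∀ p : V, inK k c (cd p).val = true → g.1 p = p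

/-- The images of the complement. -/
noncomputable def tup (g : O) (k : Fin 5) (c : ℕ) : List ℕ :=
  (vs k c).map fun v => (cd (g.1 (dc v) + dc v)).val

theorem mem_tuples (M : List ℕ) : ∀ l : List ℕ, (∀ a ∈ l, a ∈ M) → l ∈ tuples M l.length
  | [], _ => List.mem_singleton.2 rfl
  | a :: l, h => by
    rw [List.length_cons, tuples]
    exact List.mem_flatMap.2 ⟨a, h a List.mem_cons_self,
      List.mem_map.2 ⟨l, mem_tuples M l fun b hb => h b (List.mem_cons_of_mem _ hb), rfl⟩⟩

theorem okM_map (g : O) : ∀ a : List ℕ, (∀ v ∈ a, v < 256) →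
    okM a (a.map fun v => (cd (g.1 (dc v) + dc v)).val) = true := by
  have hkey : ∀ v, v < 256 → v ^^^ (cd (g.1 (dc v) + dc v)).val = (cd (g.1 (dc v))).val := by
    intro v hv
    rw [cd_xor, cd_val hv, Nat.xor_comm (cd (g.1 (dc v))).val, ← Nat.xor_assoc, Nat.xor_self,
      Nat.zero_xor]
  intro a
  induction a with
  | nil => exact fun _ => rfl
  | cons v a ih =>
    intro ha
    have hv := ha v List.mem_cons_self
    rw [List.map_cons, okM, ih fun w hw => ha w (List.mem_cons_of_mem _ hw), Bool.and_true,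
      Bool.and_eq_true, beq_iff_eq, List.all_eq_true]
    refine ⟨bz_inj _ _ ?_, fun p hp => ?_⟩
    · rw [hkey v hv, ← q_cd, g.2, q_dc hv]
    · rw [List.zip_map_right, List.mem_map] at hp
      obtain ⟨⟨w, w'⟩, hw, rfl⟩ := hp
      obtain ⟨hw1, hw2⟩ := List.of_mem_zip hw
      obtain rfl : w = w' := by
        have : ∀ l : List ℕ, ∀ q ∈ List.zip l l, q.1 = q.2 := by
          intro l q hq
          induction l with
          | nil => simp at hq
          | cons b l ihl =>
            rw [List.zip_cons_cons, List.mem_cons] at hq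
            rcases hq with rfl | hq
            exacts [rfl, ihl hq]
        exact this a _ hw
      have hwl := ha w (List.mem_cons_of_mem _ hw1)
      rw [beq_iff_eq]
      refine bz_inj _ _ ?_
      show bz (Bn (v ^^^ _) (w ^^^ (cd (g.1 (dc w) + dc w)).val)) = _
      rw [hkey v hv, hkey w hwl, ← Bp_cd, polar_g, Bp_dc hv hwl]
      rfl

variable {k : Fin 5} (hk : k.val < 2) {c : ℕ} (hc : c ∈ cs k)
include hk hc

/-- A vector perpendicular to the kernel. -/
theorem mem_mL {y : V} (h : ∀ p : V, inK k c (cd p).val = true → Bp p y = 0) : (cd y).val ∈ mL k c := by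
  refine mL_code k hk c hc (cd y) fun p hp => ?_
  obtain ⟨hlt, hin⟩ := kb_code k hk c hc p hp
  rw [← bz_eq_zero, ← Bp_dc hlt (cd y).isLt, dc_cd]
  exact h _ (by rwa [cd_val hlt])

theorem tup_mem {g : O} (hg : KFix g k c) : tup g k c ∈ cands k c := by
  rw [cands, List.mem_filter]
  refine ⟨?_, okM_map g _ (vs_code k hk c hc).2.1⟩
  have h := mem_tuples (mL k c) (tup g k c) fun a ha => by
    obtain ⟨v, -, rfl⟩ := List.mem_map.1 ha
    refine mem_mL hk hc fun p hp => ?_
    have e : Bp p (g.1 (dc v)) = Bp p (dc v) := by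
      conv_lhs => arg 1; rw [← hg p hp]
      exact polar_g g p (dc v)
    rw [Bp_add_right, e]
    exact (by decide : ∀ a : ZMod 2, a + a = 0) _
  rwa [show (tup g k c).length = (vs k c).length from List.length_map _] at h

theorem tup_inj {g g' : O} (hg : KFix g k c) (hg' : KFix g' k c) (h : tup g k c = tup g' k c) :
    g = g' := by
  obtain ⟨-, hlt, hdec⟩ := vs_code k hk c hc
  have hvs : ∀ v ∈ vs k c, g.1 (dc v) = g'.1 (dc v) := fun v hv => by
    have e := List.map_inj_left.1 h v hv
    have e' : g.1 (dc v) + dc v = g'.1 (dc v) + dc v := by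
      rw [← dc_cd (g.1 (dc v) + dc v), e, dc_cd]
    exact add_right_cancel e'
  refine ext_oG fun x => ?_
  obtain ⟨p, hp, hpK⟩ := hdec (cd x)
  have hpv := mem_sums (P := fun p => p < 256 ∧ g.1 (dc p) = g'.1 (dc p))
    ⟨by norm_num, by rw [dc_zero, map_zero, map_zero]⟩
    (fun a b ha hb => ⟨xor_lt ha.1 hb.1, by rw [dc_xor, map_add, map_add, ha.2, hb.2]⟩)
    (vs k c) (fun v hv => ⟨hlt v hv, hvs v hv⟩) p hp
  have hl : (cd x).val ^^^ p < 256 := xor_lt (cd x).isLt hpv.1
  have hfx : inK k c (cd (dc ((cd x).val ^^^ p))).val = true := by rw [cd_val hl]; exact hpK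
  have e : x = dc ((cd x).val ^^^ p) + dc p := by
    rw [dc_xor, dc_cd, add_assoc, v_add_self, add_zero]
  rw [e, map_add, map_add, hpv.2, hg _ hfx, hg' _ hfx]

end Cfsg.Agent.CoOneWeak
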